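import Cfsg.Agent.Lib.Small.SpinCover.Lift
import Cfsg.Agent.Lib.Classical.OrthPOmega

/-!
The double cover lifts to every central extension, and the orders of the kernels.
-/

set_option autoImplicit false
set_option linter.unusedSectionVars false
set_option linter.unusedSimpArgs false

namespace Cfsg.Agent.Small.SpinCover

open Matrix Cfsg.Agent.Lie.CTA Cfsg.Agent.Small.OmegaPres
open Cfsg.Agent.Small.SchurLifts
open Cfsg.Agent.Lie.PlusGen (pl pl_swap gens swap_ne)
open scoped commutatorElement

section Abstract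

variable {Γ Q A : Type*} [Group Γ] [Group Q] [Group A] (C : Central Γ Q)

theorem lift_unique (hA : commutator A = ⊤) (f g : A →* Γ) (h : C.π.comp f = C.π.comp g) : f = g := by
  refine MonoidHom.ext fun a => ?_
  have ha : a ∈ Subgroup.closure (commutatorSet A) := by
    rw [← commutator_eq_closure, hA]; exact Subgroup.mem_top a
  induction ha using Subgroup.closure_induction with
  | mem x hx =>
    obtain ⟨p, q, rfl⟩ := hx
    rw [map_commutatorElement, map_commutatorElement]
    exact C.comm_indep (DFunLike.congr_fun h p) (DFunLike.congr_fun h q)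
  | one => rw [map_one, map_one]
  | mul x y _ _ hx hy => rw [map_mul, map_mul, hx, hy]
  | inv x _ hx => rw [map_inv, map_inv, hx]

/-- A subgroup covering a perfect central extension is everything. -/
theorem cover_top (hΓ : commutator Γ = ⊤) (H : Subgroup Γ) (h : ∀ q, ∃ x ∈ H, C.π x = q) : H = ⊤ := by
  rw [eq_top_iff, ← hΓ, commutator_def, Subgroup.commutator_le]
  intro x _ y _
  obtain ⟨a, ha, hax⟩ := h (C.π x)
  obtain ⟨b, hb, hby⟩ := h (C.π y)
  rw [C.comm_indep hax.symm hby.symm, commutatorElement_def]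
  exact mul_mem (mul_mem (mul_mem ha hb) (inv_mem ha)) (inv_mem hb)

end Abstract

variable {F : Type*} [Field F] [Fintype F] {l : ℕ}

local notation "SL2" => Matrix.SpecialLinearGroup (Fin 2) F

variable (F l) in
/-- The double cover as a central extension. -/
noncomputable def CS : Central ↥(Spin F l) ↥(OM F l) where
  π := (proj F l).codRestrict (OM F l) fun p => by rw [OM, ← proj_range]; exact ⟨p, rfl⟩
  surj := fun m => by
    obtain ⟨p, hp⟩ : m.1 ∈ (proj F l).range := by rw [proj_range]; exact m.2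
    exact ⟨p, Subtype.ext hp⟩
  central := by
    rw [MonoidHom.ker_codRestrict]
    exact ker_central

theorem mat_CS (p : ↥(Spin F l)) : mat (CS F l) p = proj F l p := rfl

theorem neg_eq : (-1 : SL2) = (ue (-1) * le' 1 * ue (-1)) * (ue (-1) * le' 1 * ue (-1)) := by
  apply Subtype.ext
  ext i j
  fin_cases i <;> fin_cases j <;> simp [ue_val, le'_val, Matrix.mul_apply, Fin.sum_univ_two]

set_option maxHeartbeats 1000000 in
/-- The product of the two involutions of the fork is the sign. -/
theorem spin_neg (hl : 2 ≤ l) (θ : Matrix.SpecialLinearGroup (Fin (l + 2)) F →* ↥(Spin F l))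
    (hθ : ∀ g, mat (CS F l) (θ g) = Fork.levi g) (t : ↥(Spin F l)) (ht : mat (CS F l) t = tm F l) :
    (θ (emb2 (iab l) (-1)) * kapG hl θ t (-1)).1.1.1 = -1 := by
  obtain ⟨Φ, hΦ⟩ := exists_levi_lift (F := F) hl
  have e : θ = Φ := by
    refine lift_unique (CS F l) (Cfsg.Agent.Classical.sl_commutator_eq_top (by rw [Fintype.card_fin]; omega)) θ Φ ?_
    refine MonoidHom.ext fun g => π_eq (CS F l) ((hθ g).trans ?_)
    have hg : g ∈ Subgroup.closure {g : Matrix.SpecialLinearGroup (Fin (l + 2)) F |
        ∃ (i j : Fin (l + 2)) (h : i ≠ j) (c : F), g = Matrix.SpecialLinearGroup.transvection h c} := by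
      rw [Cfsg.Agent.Classical.sl_closure_transvections]; exact Subgroup.mem_top g
    induction hg using Subgroup.closure_induction with
    | mem x hx =>
      obtain ⟨i, j, hij, c, rfl⟩ := hx
      rw [show Matrix.SpecialLinearGroup.transvection hij c = tv' i j c by rw [tv', dif_pos hij], hΦ i j hij,
        Fork.levi_tv hij, mat_CS]
      exact (ep_snd (show pl (Sum.inl i : II l) ≠ pl (Sum.inr j : II l) from hij) c).symm
    | one => rw [map_one, map_one, map_one]
    | mul a b _ _ ha hb => rw [map_mul, map_mul, map_mul, ha, hb]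
    | inv a _ ha => rw [map_inv, map_inv, map_inv, ha]
  subst e
  have ha := jc_ia (two_one hl)
  have hb : jc l ≠ ib l := jc_ib
  have pA : pl (Sum.inl (ia l) : II l) ≠ pl (Sum.inl (ib l) : II l) := iab l
  have pB : pl (Sum.inl (ia l) : II l) ≠ pl (Sum.inr (ib l) : II l) := iab l
  have hm : SMono (proj F l t) _ _ := (show proj F l t = tm F l from ht).symm ▸ tm_mono
  obtain ⟨r1, r2, r3, r4, r5⟩ := Fork.refl_val (show pl (Sum.inl (jc l) : II l) ≠ pl (Sum.inl (ib l) : II l) from hb)
  obtain ⟨k1, k2, k3, k4⟩ := Fork.scal_val (show pl (Sum.inl (jc l) : II l) ≠ pl (Sum.inl (ib l) : II l) from hb) (1 : F)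
  simp only [Sum.swap_inl] at r1 r2 r3 r4 r5 k1 k2 k3 k4
  have ku : ∀ s : F, kapG hl θ t (ue s) = ep F (Sum.inl (ia l)) (Sum.inl (ib l)) s := fun s => by
    show t * θ (emb2 ha.symm (ue s)) * t⁻¹ = _
    rw [emb2_ue ha.symm, hΦ _ _ ha.symm, spin_conj hm (show pl (Sum.inl (ia l) : II l) ≠ pl (Sum.inr (jc l) : II l) from ha.symm),
      r3, r5 _ (by simpa using ha.symm) (by simp) (by simp) (by simpa using iab l), k3]
    simp [Fork.reflScal, ha.symm, iab l]
  have kl : ∀ s : F, kapG hl θ t (le' s) = ep F (Sum.inr (ib l)) (Sum.inr (ia l)) s := fun s => by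
    show t * θ (emb2 ha.symm (le' s)) * t⁻¹ = _
    rw [emb2_le' ha.symm, hΦ _ _ ha, spin_conj hm (show pl (Sum.inl (jc l) : II l) ≠ pl (Sum.inr (ia l) : II l) from ha),
      r1, r5 _ (by simp) (by simpa using iab l) (by simpa using ha.symm) (by simp), k1]
    simp [Fork.reflScal, ha.symm, iab l]
  have v1 : (kapG hl θ t (-1)).1.1.1 = 1 - 2 * ((cl F (Sum.inl (ia l)) * cl F (Sum.inr (ia l))) *
      (cl F (Sum.inl (ib l)) * cl F (Sum.inr (ib l))) +
      (cl F (Sum.inr (ib l)) * cl F (Sum.inl (ib l))) * (cl F (Sum.inr (ia l)) * cl F (Sum.inl (ia l)))) := by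
    have := neg_val (F := F) pA
    simp only [Sum.swap_inl] at this
    rw [neg_eq, map_mul, map_mul, map_mul, ku, kl]
    exact this
  have v2 : (θ (emb2 (iab l) (-1))).1.1.1 = 1 - 2 * ((cl F (Sum.inl (ia l)) * cl F (Sum.inr (ia l))) *
      (cl F (Sum.inr (ib l)) * cl F (Sum.inl (ib l))) +
      (cl F (Sum.inl (ib l)) * cl F (Sum.inr (ib l))) * (cl F (Sum.inr (ia l)) * cl F (Sum.inl (ia l)))) := by
    have := neg_val (F := F) pB
    simp only [Sum.swap_inl, Sum.swap_inr] at this
    rw [neg_eq]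
    simp only [map_mul, emb2_ue (iab l), emb2_le' (iab l)]
    rw [hΦ _ _ (iab l), hΦ _ _ (iab l).symm]
    exact this
  have key := neg_pair (F := F) pA
  simp only [Sum.swap_inl] at key
  rw [Subgroup.coe_mul, Prod.fst_mul, Units.val_mul, v1, v2]
  exact key

theorem neg_one_eq (h2 : (2 : F) = 0) : (-1 : SL2) = 1 := by
  apply Subtype.ext
  ext i j
  have h1 : (-1 : F) = 1 := neg_eq_of_add_eq_zero_left (one_add_one_eq_two.trans h2)
  fin_cases i <;> fin_cases j <;> simp [h1]

/-- The two elements over the identity. -/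
theorem spin_ker (hl : 2 ≤ l) (hexc : l = 2 → Fintype.card F ≠ 2) :
    ∃ z : ↥(Spin F l), z * z = 1 ∧ proj F l z = 1 ∧ ((2 : F) = 0 → z = 1) ∧ ((2 : F) ≠ 0 → z ≠ 1) ∧
      ∀ x, proj F l x = 1 → x = 1 ∨ x = z := by
  obtain ⟨θ, t, hθ, ht, hzz, hker, hcov⟩ := exists_lift hl hexc (CS F l)
  have htop : Subgroup.closure (Set.range θ ∪ {t}) = ⊤ :=
    cover_top (CS F l) (spin_perfect hl) _ fun m => by
      obtain ⟨x, hx, e⟩ := hcov m.1 m.2
      exact ⟨x, hx, Subtype.ext e⟩
  refine ⟨_, hzz, ?_, fun h2 => ?_, fun h2 e => ?_, fun x hx => ?_⟩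
  · show mat (CS F l) _ = 1
    rw [map_mul, hθ, show mat (CS F l) (kapG hl θ t (-1)) = kapm (two_one hl) (-1) by
      show mat (CS F l) (t * θ _ * t⁻¹) = _
      rw [map_mul, map_mul, map_inv, ht, hθ]; rfl]
    exact kapm_neg _
  · rw [neg_one_eq h2, map_one, map_one, map_one, mul_one]
  · have h := spin_neg hl θ hθ t ht
    rw [e] at h
    have := congrFun (congrFun h (fun _ => 0)) (fun _ => 0)
    simp at this
    exact h2 (by linear_combination this)
  · obtain ⟨i, rfl⟩ := Subgroup.mem_zpowers_iff.1 (hker x (htop ▸ Subgroup.mem_top x) (Subtype.ext hx))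
    rcases Int.even_or_odd' i with ⟨j, rfl | rfl⟩
    · left; rw [_root_.zpow_mul, _root_.zpow_two, hzz, _root_.one_zpow]
    · right; rw [_root_.zpow_add, _root_.zpow_mul, _root_.zpow_two, hzz, _root_.one_zpow, one_mul, _root_.zpow_one]

set_option maxHeartbeats 1000000 in
/-- The double cover lifts to every central extension. -/
theorem spin_universal (hl : 2 ≤ l) (hexc : l = 2 → Fintype.card F ≠ 2) {Γ : Type*} [Group Γ]
    (C : Central Γ ↥(OM F l)) : ∃ ρ : ↥(Spin F l) →* Γ, C.π.comp ρ = (CS F l).π := by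
  let P : Subgroup (Γ × ↥(Spin F l)) :=
    (C.π.comp (MonoidHom.fst _ _)).eqLocus ((CS F l).π.comp (MonoidHom.snd _ _))
  let CP : Central ↥P ↥(OM F l) :=
  { π := (C.π.comp (MonoidHom.fst _ _)).comp P.subtype
    surj := fun m => by
      obtain ⟨a, ha⟩ := C.surj m
      obtain ⟨b, hb⟩ := (CS F l).surj m
      exact ⟨⟨(a, b), show C.π a = (CS F l).π b by rw [ha, hb]⟩, ha⟩
    central := fun x hx => by
      have h1 : C.π x.1.1 = 1 := hx
      have h2 : (CS F l).π x.1.2 = 1 := by rw [← show C.π x.1.1 = (CS F l).π x.1.2 from x.2, h1]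
      rw [Subgroup.mem_center_iff]
      exact fun y => Subtype.ext (Prod.ext (Subgroup.mem_center_iff.1 (C.central h1) _)
        (Subgroup.mem_center_iff.1 ((CS F l).central h2) _)) }
  obtain ⟨θ, t, hθ, ht, hzz, hker, hcov⟩ := exists_lift hl hexc CP
  set G0 := Subgroup.closure (Set.range θ ∪ {t})
  let sn : ↥P →* ↥(Spin F l) := (MonoidHom.snd _ _).comp P.subtype
  have hsn : ∀ x : ↥P, mat (CS F l) (sn x) = mat CP x := fun x =>
    congrArg Subtype.val (x.2 : C.π x.1.1 = (CS F l).π x.1.2).symm
  let p := sn.comp G0.subtype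
  have psurj : Function.Surjective p := by
    rw [← MonoidHom.range_eq_top]
    refine cover_top (CS F l) (spin_perfect hl) _ fun m => ?_
    obtain ⟨x, hx, e⟩ := hcov m.1 m.2
    exact ⟨sn x, ⟨⟨x, hx⟩, rfl⟩, Subtype.ext ((hsn x).trans e)⟩
  have hθ' : ∀ g, mat (CS F l) ((sn.comp θ) g) = Fork.levi g := fun g => (hsn _).trans (hθ g)
  have ht' : mat (CS F l) (sn t) = tm F l := (hsn t).trans ht
  have pinj : Function.Injective p := by
    rw [injective_iff_map_eq_one]
    rintro ⟨x, hx⟩ e
    replace e : sn x = 1 := e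
    have h1 : CP.π x = 1 := π_eq CP (by rw [← hsn, e, map_one, map_one]) |>.trans (map_one _)
    obtain ⟨i, hi⟩ := Subgroup.mem_zpowers_iff.1 (hker x hx h1)
    set z := θ (emb2 (iab l) (-1)) * kapG hl θ t (-1)
    have hz : sn z = (sn.comp θ) (emb2 (iab l) (-1)) * kapG hl (sn.comp θ) (sn t) (-1) := by
      show sn (θ _ * (t * θ _ * t⁻¹)) = _
      rw [map_mul, map_mul, map_mul, map_inv]
      rfl
    refine Subtype.ext (show x = 1 from ?_)
    rcases Int.even_or_odd' i with ⟨j, rfl | rfl⟩
    · rw [← hi, _root_.zpow_mul, _root_.zpow_two, hzz, _root_.one_zpow]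
    · have hx1 : x = z := by
        rw [← hi, _root_.zpow_add, _root_.zpow_mul, _root_.zpow_two, hzz, _root_.one_zpow, one_mul, _root_.zpow_one]
      by_cases h2 : (2 : F) = 0
      · rw [hx1]
        simp only [z, neg_one_eq h2, map_one, mul_one]
      · exfalso
        have h := spin_neg hl (sn.comp θ) hθ' (sn t) ht'
        rw [← hz, ← hx1, e] at h
        have := congrFun (congrFun h (fun _ => 0)) (fun _ => 0)
        simp at this
        exact h2 (by linear_combination this)
  let e := MulEquiv.ofBijective p ⟨pinj, psurj⟩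
  refine ⟨(((MonoidHom.fst _ _).comp P.subtype).comp G0.subtype).comp e.symm.toMonoidHom, MonoidHom.ext fun s => ?_⟩
  obtain ⟨x, rfl⟩ := e.surjective s
  show C.π ((e.symm (e x)).1.1.1) = (CS F l).π (p x)
  rw [e.symm_apply_apply]
  exact x.1.2

/-- The image of the derived group in the matrices. -/
theorem omega_map (hl : 2 ≤ l) :
    (Cfsg.Omega F (Cfsg.quadFormPlus (l + 2) F)).map (Cfsg.isometryGroup F (Cfsg.quadFormPlus (l + 2) F)).subtype =
      OM F l := by
  let M : Subgroup (GL (II l) F) := Subgroup.closure (Set.range (Fork.levi (F := F) (l := l)) ∪ {tm F l})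
  let Φ : Matrix.SpecialLinearGroup (Fin (l + 2)) F →* ↥M :=
    (Fork.levi).codRestrict M fun g => Subgroup.subset_closure (Or.inl ⟨g, rfl⟩)
  let t : ↥M := ⟨tm F l, Subgroup.subset_closure (Or.inr rfl)⟩
  let D : Gluing F ↥M l :=
  { two := hl
    Φ := Φ
    t := t
    comm := fun g z => Subtype.ext (show kapm (two_one hl) g * Fork.levi (blk hl z) = Fork.levi (blk hl z) * kapm (two_one hl) g from by
      obtain ⟨a, b⟩ := z
      rw [show blk hl (a, b) = emb2 (iab l) a * lowEmb l b from rfl, map_mul]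
      refine ((kapm_comm_pair _ g a).mul_right ?_).eq
      haveI : Nontrivial (Fin l) := Fin.nontrivial_iff_two_le.2 hl
      have hb : b ∈ Subgroup.closure {g : Matrix.SpecialLinearGroup (Fin l) F |
          ∃ (i j : Fin l) (h : i ≠ j) (c : F), g = Matrix.SpecialLinearGroup.transvection h c} := by
        rw [Cfsg.Agent.Classical.sl_closure_transvections]; exact Subgroup.mem_top b
      induction hb using Subgroup.closure_induction with
      | mem x hx =>
        obtain ⟨i, j, hij, c, rfl⟩ := hx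
        rw [show Matrix.SpecialLinearGroup.transvection hij c = tv' i j c by rw [tv', dif_pos hij], lowEmb_tv hij]
        exact kapm_comm_low _ g ((Fin.castSucc_injective _).ne ((Fin.castSucc_injective _).ne hij)) (low_ne i).1
          (low_ne i).2 (low_ne j).1 (low_ne j).2 c
      | one => rw [map_one, map_one]; exact Commute.one_right _
      | mul a b _ _ ha hb => rw [map_mul, map_mul]; exact ha.mul_right hb
      | inv a _ ha => rw [map_inv, map_inv]; exact ha.inv_right)
    expr := Subtype.ext (kapm_expr (two_one hl) (J2_val (F := F)))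
    neg := Subtype.ext (kapm_neg (two_one hl))
    gen := by
      rw [eq_top_iff]
      rintro ⟨y, hy⟩ -
      induction hy using Subgroup.closure_induction with
      | mem a ha =>
        rcases ha with ⟨g, rfl⟩ | rfl
        · exact Subgroup.subset_closure (Or.inl ⟨g, rfl⟩)
        · exact Subgroup.subset_closure (Or.inr rfl)
      | one => exact one_mem _
      | mul a b ha hb iha ihb =>
        exact mul_mem iha ihb
      | inv a ha iha => exact inv_mem iha
    π := M.subtype
    π_Φ := fun g => rfl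
    π_t := rfl }
  obtain ⟨K, -, -⟩ := D.exists_fork
  rw [Cfsg.Omega, commutator_def, Subgroup.map_commutator, ← MonoidHom.range_eq_map, Subgroup.range_subtype,
    K.derived]
  rfl

variable (F l) in
/-- The isometries in the matrix group. -/
noncomputable def omEquiv (hl : 2 ≤ l) :
    ↥(OM F l) ≃* ↥(Cfsg.Omega F (Cfsg.quadFormPlus (l + 2) F)) :=
  ((MulEquiv.subgroupCongr (omega_map hl).symm).trans
    ((Cfsg.Omega F (Cfsg.quadFormPlus (l + 2) F)).equivMapOfInjective _
      (Cfsg.isometryGroup F (Cfsg.quadFormPlus (l + 2) F)).subtype_injective).symm)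

open Cfsg.Agent.Classical Cfsg.Agent.Classical.OOmega Cfsg.Agent.Classical.OCount in
/-- The order of the centre. -/
theorem card_center_omega [DecidableEq F] (hl : 2 ≤ l) :
    Nat.card ↥(Subgroup.center ↥(Cfsg.Omega F (Cfsg.quadFormPlus (l + 2) F))) * (if (2 : F) = 0 then 2 else 4) =
      2 * Nat.gcd 4 (Fintype.card F ^ (l + 2) - 1) := by
  classical
  have hN := card_POmega_plus (F := F) (m := l + 2) (by omega)
  have hc := card_GO_plus (l + 1) (F := F)
  have hm : Nat.card ↥(Cfsg.Omega F (Cfsg.quadFormPlus (l + 2) F)) =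
      Nat.card (Cfsg.POmega F (Cfsg.quadFormPlus (l + 2) F)) *
        Nat.card ↥(Subgroup.center ↥(Cfsg.Omega F (Cfsg.quadFormPlus (l + 2) F))) :=
    Subgroup.card_eq_card_quotient_mul_card_subgroup _
  have hidx : (Cfsg.Omega F (Cfsg.quadFormPlus (l + 2) F)).index = if (2 : F) = 0 then 2 else 4 := by
    rw [← coe_plus (l + 2)]
    by_cases h2 : (2 : F) = 0
    · haveI : CharP F 2 := CharTwo.of_one_ne_zero_of_two_eq_zero one_ne_zero h2
      rw [if_pos h2]
      exact index_omega_two (formOf_pnd pnd_empty) (by simp; omega) (Or.inr (by simp; omega))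
    · rw [if_neg h2]
      exact index_omega_odd h2 (formOf_pnd pnd_empty) (by simp; omega)
  have hO := card_omega _ _ hidx
  rw [hm, hc] at hO
  have hpos : 0 < Nat.card (Cfsg.POmega F (Cfsg.quadFormPlus (l + 2) F)) := Nat.card_pos
  have e1 : l + 2 - 1 = l + 1 := rfl
  rw [e1] at hN
  refine Nat.eq_of_mul_eq_mul_left hpos ?_
  calc _ = Nat.card (Cfsg.POmega F (Cfsg.quadFormPlus (l + 2) F)) *
        Nat.card ↥(Subgroup.center ↥(Cfsg.Omega F (Cfsg.quadFormPlus (l + 2) F))) *
        (if (2 : F) = 0 then 2 else 4) := by ring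
    _ = _ := by
      rw [hO, mul_left_comm, mul_comm _ (Nat.gcd 4 _), hN]
      ring

end Cfsg.Agent.Small.SpinCover
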