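import Cfsg.Agent.Lib.Classical.SpinOps

/-!
Anticommuting operators for a hyperbolic form: creation and annihilation on the binary tensor space.
-/

set_option autoImplicit false
set_option linter.unusedSectionVars false
set_option linter.unusedSimpArgs false

namespace Cfsg.Agent.Small.SpinCover

open Matrix Cfsg.Agent.Classical.Spin

variable (F : Type*) [Field F] {n : ℕ}

local notation "MM" => Matrix (Fin n → Fin 2) (Fin n → Fin 2) F

/-- The sign of the occupied places below `k`. -/
def sgv (k : Fin n) (x : Fin n → Fin 2) : F :=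
  ∏ j ∈ Finset.univ.filter (fun j => j < k), if x j = 0 then 1 else -1

/-- The sign operator. -/
def sgm (k : Fin n) : MM := Matrix.diagonal (sgv F k)

/-- The operators of the signed coordinates. -/
def cl : Fin n ⊕ Fin n → MM := Sum.elim (fun i => sgm F i * op F i 0) (fun i => sgm F i * op F i 1)

variable {F}

theorem sgv_sq (k : Fin n) (x : Fin n → Fin 2) : sgv F k x * sgv F k x = 1 := by
  rw [sgv, ← Finset.prod_mul_distrib]
  exact Finset.prod_eq_one fun j _ => by split_ifs <;> simp

theorem sgm_sq (k : Fin n) : sgm F k * sgm F k = (1 : MM) := by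
  rw [sgm, Matrix.diagonal_mul_diagonal, ← Matrix.diagonal_one]
  exact congrArg _ (funext (sgv_sq k))

theorem sgm_comm (i k : Fin n) : sgm F i * sgm F k = (sgm F k * sgm F i : MM) := by
  rw [sgm, sgm, Matrix.diagonal_mul_diagonal, Matrix.diagonal_mul_diagonal]
  exact congrArg _ (funext fun x => mul_comm _ _)

theorem sgv_flip {i k : Fin n} (b : Fin 2) {x : Fin n → Fin 2} (hx : x i = b) :
    sgv F k (Function.update x i (b + 1)) = if i < k then -sgv F k x else sgv F k x := by
  by_cases h : i < k
  · rw [if_pos h, sgv, sgv, ← Finset.mul_prod_erase _ _ (show i ∈ Finset.univ.filter (fun j => j < k) by simp [h]),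
      ← Finset.mul_prod_erase _ _ (show i ∈ Finset.univ.filter (fun j => j < k) by simp [h]), Function.update_self,
      Finset.prod_congr rfl (fun j hj => by rw [Function.update_of_ne (Finset.ne_of_mem_erase hj)]), hx]
    fin_cases b <;> simp
  · rw [if_neg h, sgv, sgv]
    refine Finset.prod_congr rfl fun j hj => ?_
    rw [Function.update_of_ne]
    rintro rfl
    exact h (Finset.mem_filter.1 hj).2

theorem op_sgm (i k : Fin n) (b : Fin 2) :
    op F i b * sgm F k = (if i < k then -(sgm F k * op F i b) else sgm F k * op F i b : MM) := by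
  ext x y
  rw [op_mul_apply]
  by_cases hx : x i = b
  · rw [if_pos hx, sgm, Matrix.diagonal_apply, sgv_flip b hx]
    by_cases hy : y = Function.update x i (b + 1)
    · by_cases h : i < k <;> simp [h, op, hx, hy]
    · by_cases h : i < k <;> simp [h, op, hx, hy, Ne.symm hy]
  · rw [if_neg hx]
    by_cases h : i < k <;> simp [h, sgm, op, hx]

theorem cl_anti (x y : Fin n ⊕ Fin n) : cl F x * cl F y + cl F y * cl F x = if y = x.swap then (1 : MM) else 0 := by
  have same : ∀ (i : Fin n) (b c : Fin 2), (sgm F i * op F i b) * (sgm F i * op F i c) = (op F i b * op F i c : MM) := by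
    intro i b c
    rw [mul_assoc, ← mul_assoc (op F i b), op_sgm, if_neg (lt_irrefl i), mul_assoc, ← mul_assoc, sgm_sq, one_mul]
  have diff : ∀ (i j : Fin n) (b c : Fin 2), i < j →
      (sgm F i * op F i b) * (sgm F j * op F j c) + (sgm F j * op F j c) * (sgm F i * op F i b) = (0 : MM) := by
    intro i j b c hij
    have e1 : (sgm F i * op F i b) * (sgm F j * op F j c) = -(sgm F i * sgm F j * (op F i b * op F j c) : MM) := by
      rw [mul_assoc, ← mul_assoc (op F i b), op_sgm, if_pos hij]
      simp [mul_assoc]
    have e2 : (sgm F j * op F j c) * (sgm F i * op F i b) = (sgm F j * sgm F i * (op F j c * op F i b) : MM) := by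
      rw [mul_assoc, ← mul_assoc (op F j c), op_sgm, if_neg (not_lt.2 hij.le)]
      simp [mul_assoc]
    rw [e1, e2, sgm_comm j i, (op_comm hij.ne' c b).eq, neg_add_cancel]
  have key : ∀ (i j : Fin n) (b c : Fin 2),
      (sgm F i * op F i b) * (sgm F j * op F j c) + (sgm F j * op F j c) * (sgm F i * op F i b) =
        if j = i ∧ c = b + 1 then (1 : MM) else 0 := by
    intro i j b c
    rcases lt_trichotomy i j with h | h | h
    · rw [diff i j b c h, if_neg fun e => h.ne' e.1]
    · subst h
      rw [same, same]
      by_cases hc : c = b + 1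
      · rw [if_pos ⟨rfl, hc⟩, hc, op_anti]
      · rw [if_neg fun e => hc e.2]
        have hcb : c = b := by
          have := fin2_of_ne c (b + 1) hc
          rwa [fin2_succ_succ] at this
        rw [hcb, op_sq, add_zero]
    · rw [add_comm, diff j i c b h, if_neg fun e => h.ne e.1]
  rcases x with i | i <;> rcases y with j | j <;> simp only [cl, Sum.elim_inl, Sum.elim_inr] <;> rw [key] <;> simp

theorem cl_sq (x : Fin n ⊕ Fin n) : cl F x * cl F x = (0 : MM) := by
  rcases x with i | i <;> simp only [cl, Sum.elim_inl, Sum.elim_inr]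
  all_goals
    rw [mul_assoc, ← mul_assoc (op F i _), op_sgm, if_neg (lt_irrefl i), mul_assoc, ← mul_assoc, sgm_sq, one_mul,
      op_sq]

theorem cl_swap (x y : Fin n ⊕ Fin n) (h : y ≠ x.swap) : cl F y * cl F x = -(cl F x * cl F y : MM) := by
  rw [eq_neg_iff_add_eq_zero, add_comm, cl_anti, if_neg h]

theorem cl_move (x y z : Fin n ⊕ Fin n) :
    cl F x * cl F y * cl F z = cl F z * (cl F x * cl F y) + ((if z = y.swap then cl F x else 0) - (if z = x.swap then cl F y else 0) : MM) := by
  have e1 : cl F y * cl F z = (if z = y.swap then (1 : MM) else 0) - cl F z * cl F y :=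
    eq_sub_of_add_eq (cl_anti y z)
  have e2 : cl F x * cl F z = (if z = x.swap then (1 : MM) else 0) - cl F z * cl F x :=
    eq_sub_of_add_eq (cl_anti x z)
  rw [mul_assoc, e1, mul_sub, ← mul_assoc, e2, sub_mul, mul_assoc]
  split_ifs <;> simp <;> abel

end Cfsg.Agent.Small.SpinCover
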