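import Cfsg.Agent.Lib.Small.SpinCover.Pairing

/-!
Every central extension of the commutator subgroup of the orthogonal group of plus type carries a fork, whose
kernel has at most two elements.
-/

set_option autoImplicit false
set_option linter.unusedSectionVars false
set_option linter.unusedSimpArgs false

namespace Cfsg.Agent.Small.SpinCover

open Matrix Cfsg.Agent.Lie.CTA Cfsg.Agent.Small.OmegaPres
open Cfsg.Agent.Small.SchurLifts
open Cfsg.Agent.Lie.PlusGen (pl pl_swap gens swap_ne)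
open scoped commutatorElement

variable {F : Type*} [Field F] [Fintype F] {l : ℕ}

local notation "SL2" => Matrix.SpecialLinearGroup (Fin 2) F

theorem smono_mul {g h : GL (II l) F} {π ρ : Equiv.Perm (II l)} {k m : II l → F} (hg : SMono g π k)
    (hh : SMono h ρ m) : SMono (g * h) (π * ρ) (fun z => m z * k (ρ z)) := by
  refine ⟨fun z => ?_, fun z => ?_, fun z => ?_⟩
  · rw [Equiv.Perm.mul_apply, Equiv.Perm.mul_apply, hh.1, hg.1]
  · show m z * k (ρ z) * (m z.swap * k (ρ z.swap)) = 1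
    rw [hh.1]
    linear_combination (k (ρ z) * k (ρ z).swap) * hh.2.1 z + hg.2.1 (ρ z)
  · rw [Units.val_mul, ← mulVec_mulVec, hh.2.2, hg.mulVec, Equiv.Perm.mul_apply]

theorem small_field (h : Fintype.card F ≤ 3) (x : F) : x = 0 ∨ x = 1 ∨ x = -1 := by
  by_cases hx : x = 0
  · exact Or.inl hx
  have h1 := FiniteField.pow_card_sub_one_eq_one x hx
  have := Fintype.one_lt_card (α := F)
  rcases (show Fintype.card F - 1 = 1 ∨ Fintype.card F - 1 = 2 by omega) with e | e <;> rw [e] at h1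
  · exact Or.inr (Or.inl (by simpa using h1))
  · exact Or.inr (sq_eq_one_iff.1 h1)

theorem ue_zero' : ue (0 : F) = 1 := ue_zero

theorem le'_conj (t : F) : le' t = J2 F * ue (-t) * (J2 F)⁻¹ := by
  rw [eq_mul_inv_iff_mul_eq]
  apply Subtype.ext
  ext i j
  fin_cases i <;> fin_cases j <;> simp [ue_val, le'_val, J2_val, Matrix.mul_apply, Fin.sum_univ_two]

section Small

variable {Γ Q : Type*} [Group Γ] [Group Q] (C : Central Γ Q)

/-- Over two or three elements one unipotent element decides whether a lift commutes. -/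
theorem small_commute (h : Fintype.card F ≤ 3) (f : SL2 →* Γ) (c : Γ) (hc : ∀ g, Commute (C.π c) (C.π (f g)))
    (h1 : Commute c (f (ue 1))) (g : SL2) : Commute c (f g) := by
  have hu : ∀ t : F, Commute c (f (ue t)) := fun t => by
    rcases small_field h t with rfl | rfl | rfl
    · rw [ue_zero', map_one]; exact Commute.one_right _
    · exact h1
    · rw [show ue (-1 : F) = (ue 1)⁻¹ from eq_inv_of_mul_eq_one_left (by rw [ue_add, neg_add_cancel, ue_zero']),
        map_inv]
      exact h1.inv_right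
  refine sl2_induction (P := fun g => Commute c (f g)) hu (fun t => ?_) (by rw [map_one]; exact Commute.one_right _)
    (fun a b ha hb => by rw [map_mul]; exact ha.mul_right hb) (fun a ha => by rw [map_inv]; exact ha.inv_right) g
  have e := (hu (-t)).map (MulAut.conj (f (J2 F))).toMonoidHom
  refine C.commute_indep (a' := f (J2 F) * c * (f (J2 F))⁻¹) ?_ rfl (by
    rw [le'_conj, map_mul, map_mul, map_inv]
    simpa only [MulEquiv.coe_toMonoidHom, MulAut.conj_apply] using e)
  rw [map_mul, map_mul, map_inv, (hc (J2 F)).symm.eq, mul_inv_cancel_right]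

end Small

variable {Γ : Type*} [Group Γ]

theorem exists_levi (hl : 2 ≤ l) (hexc : l = 2 → Fintype.card F ≠ 2) (C : Central Γ ↥(OM F l)) :
    ∃ θ : Matrix.SpecialLinearGroup (Fin (l + 2)) F →* Γ, ∀ g, mat C (θ g) = Fork.levi g := by
  obtain ⟨θ, hθ⟩ := SchurSLFinal.exists_hom (K := F) (l + 2)
    (by
      by_cases h : l = 2
      · exact Or.inr (Or.inr (Or.inl ⟨by omega, hexc h⟩))
      · exact Or.inr (Or.inl (by omega)))
    C ((Fork.levi (F := F) (l := l)).codRestrict (OM F l) levi_mem)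
  exact ⟨θ, fun g => congrArg Subtype.val (DFunLike.congr_fun hθ g)⟩

theorem mat_commute (hl : 2 ≤ l) {C : Central Γ ↥(OM F l)} {θ : Matrix.SpecialLinearGroup (Fin (l + 2)) F →* Γ}
    (hθ : ∀ g, mat C (θ g) = Fork.levi g) (g : SL2) (z : SL2 × Matrix.SpecialLinearGroup (Fin l) F) :
    Commute (mat C (kapG hl θ (tl C) g)) (mat C (θ (blk hl z))) := by
  rw [mat_kap C θ hl hθ, hθ]
  obtain ⟨a, b⟩ := z
  rw [show blk hl (a, b) = emb2 (iab l) a * lowEmb l b from rfl, map_mul]
  refine (kapm_comm_pair _ g a).mul_right ?_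
  clear a
  haveI : Nontrivial (Fin l) := Fin.nontrivial_iff_two_le.2 hl
  have hb : b ∈ Subgroup.closure {g : Matrix.SpecialLinearGroup (Fin l) F |
      ∃ (i j : Fin l) (h : i ≠ j) (c : F), g = Matrix.SpecialLinearGroup.transvection h c} := by
    rw [Cfsg.Agent.Classical.sl_closure_transvections]; exact Subgroup.mem_top b
  induction hb using Subgroup.closure_induction with
  | mem x hx =>
    obtain ⟨i, j, hij, c, rfl⟩ := hx
    rw [show Matrix.SpecialLinearGroup.transvection hij c = tv' i j c by rw [tv', dif_pos hij], lowEmb_tv hij]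
    exact kapm_comm_low _ g ((Fin.castSucc_injective _).ne ((Fin.castSucc_injective _).ne hij)) (low_ne i).1
      (low_ne i).2 (low_ne j).1 (low_ne j).2 c
  | one => rw [map_one, map_one]; exact Commute.one_right _
  | mul a b _ _ ha hb => rw [map_mul, map_mul]; exact ha.mul_right hb
  | inv a _ ha => rw [map_inv, map_inv]; exact ha.inv_right

theorem ue_tv (t : F) : ue t = tv' (0 : Fin 2) 1 t := by
  apply Subtype.ext
  rw [tv'_val (by decide), ue_val]
  ext i j
  fin_cases i <;> fin_cases j <;> simp [Matrix.single]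

theorem pair_base (hl : 2 ≤ l) (hexc : l = 2 → Fintype.card F ≠ 2) (h : Fintype.card F ≤ 3)
    {C : Central Γ ↥(OM F l)} {θ : Matrix.SpecialLinearGroup (Fin (l + 2)) F →* Γ}
    (hθ : ∀ g, mat C (θ g) = Fork.levi g) :
    Commute (kapG hl θ (tl C) (ue 1)) (θ (emb2 (iab l) (ue 1))) := by
  have hA : mat C (kapG hl θ (tl C) (ue 1)) = S (Sum.inl (ia l)) (Sum.inl (ib l)) 1 := by
    rw [mat_kap C θ hl hθ, kapm_ue]
  have hB : mat C (θ (emb2 (iab l) (ue 1))) = S (Sum.inl (ia l)) (Sum.inr (ib l)) 1 := by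
    rw [hθ, emb2_ue (iab l), Fork.levi_tv (iab l)]
  have pA : pl (Sum.inl (ia l) : II l) ≠ pl (Sum.inl (ib l) : II l) := iab l
  have pB : pl (Sum.inl (ia l) : II l) ≠ pl (Sum.inr (ib l) : II l) := iab l
  have := Fintype.one_lt_card (α := F)
  rcases (show Fintype.card F = 2 ∨ Fintype.card F = 3 by omega) with h2 | h3
  · have hl3 : 3 ≤ l := by
      rcases eq_or_ne l 2 with e | e
      · exact absurd h2 (hexc e)
      · omega
    exact C.commute_indep (π_eq C (hA.trans (mat_Lr C pA).symm)) (π_eq C (hB.trans (mat_Lr C pB).symm))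
      (commutatorElement_eq_one_iff_commute.1 (pair_two hl3 h2 hθ))
  have ja := jc_ia (two_one hl)
  have jb : jc l ≠ ib l := jc_ib
  have hW := smono_mul (levi_mono (emb2_anti jb (J2_val (F := F)))) (tm_mono (F := F) (l := l))
  rw [← hθ, ← mat_tl C, ← map_mul] at hW
  obtain ⟨r1, r2, r3, r4, r5⟩ := Fork.refl_val (show pl (Sum.inl (jc l) : II l) ≠ pl (Sum.inl (ib l) : II l) from jb)
  obtain ⟨k1, k2, k3, k4⟩ := Fork.scal_val (show pl (Sum.inl (jc l) : II l) ≠ pl (Sum.inl (ib l) : II l) from jb) (1 : F)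
  simp only [Sum.swap_inl] at r1 r2 r3 r4 r5 k1 k2 k3 k4
  have ra : Fork.refl (Sum.inl (jc l)) (Sum.inl (ib l)) (Sum.inl (ia l)) = (Sum.inl (ia l) : II l) :=
    r5 _ (by simpa using ja.symm) (by simp) (by simp) (by simpa using iab l)
  refine pair_three h3 hW (z := Sum.inl (ia l)) (w := Sum.inr (ib l)) pA pB ?_ ?_ ?_ ?_ ?_ hA hB ?_ ?_
  · simp [Equiv.Perm.mul_apply, ra, Equiv.swap_apply_of_ne_of_ne ja.symm (iab l)]
  · simp [Equiv.Perm.mul_apply, r4, Equiv.swap_apply_left]
  · simp [Equiv.Perm.mul_apply, ra, Equiv.swap_apply_of_ne_of_ne ja.symm (iab l)]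
  · simp [Equiv.Perm.mul_apply, r2, Equiv.swap_apply_left]
  · simp [ra, r4, r2, k4, k2, Fork.reflScal, sc, ja.symm, iab l, jb, jb.symm]
  · rw [hA, hB]; exact S_comm_same pA 1 1
  · have h3F : (1 : F) + 1 + 1 = 0 := by
      have := FiniteField.cast_card_eq_zero F
      rw [h3] at this
      simpa [← one_add_one_eq_two, show (3 : F) = 1 + 1 + 1 by norm_num] using this
    rw [← map_pow, pow_succ, pow_two, ue_add, ue_add, h3F, ue_zero', map_one]

theorem low_base (hl : 2 ≤ l) (h3 : Fintype.card F = 3) {C : Central Γ ↥(OM F l)}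
    {θ : Matrix.SpecialLinearGroup (Fin (l + 2)) F →* Γ} (hθ : ∀ g, mat C (θ g) = Fork.levi g) (hl2 : l = 2)
    (b : Matrix.SpecialLinearGroup (Fin l) F) (hb : b = tv' (⟨0, by omega⟩ : Fin l) ⟨1, by omega⟩ 1) :
    Commute (kapG hl θ (tl C) (ue 1)) (θ (lowEmb l b)) := by
  subst hb
  have h01 : (⟨0, by omega⟩ : Fin l) ≠ ⟨1, by omega⟩ := by simp
  rw [lowEmb_tv h01]
  set d : Fin (l + 2) := (⟨0, by omega⟩ : Fin l).castSucc.castSucc with hd
  have hc : ((⟨1, by omega⟩ : Fin l).castSucc.castSucc : Fin (l + 2)) = jc l := Fin.ext (by simp [jc]; omega)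
  rw [hc]
  have ja := jc_ia (two_one hl)
  have jb : jc l ≠ ib l := jc_ib
  have dj : d ≠ jc l := fun e => by have := congrArg Fin.val e; simp [hd, jc] at this; omega
  have da : d ≠ ia l := (low_ne (⟨0, by omega⟩ : Fin l)).1
  have db : d ≠ ib l := (low_ne (⟨0, by omega⟩ : Fin l)).2
  clear_value d
  clear hd
  have hA : mat C (kapG hl θ (tl C) (ue 1)) = S (Sum.inl (ia l)) (Sum.inl (ib l)) 1 := by
    rw [mat_kap C θ hl hθ, kapm_ue]
  have hB : mat C (θ (tv' d (jc l) 1)) = S (Sum.inl d) (Sum.inr (jc l)) 1 := by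
    rw [hθ, Fork.levi_tv dj]
  have hW := smono_mul (levi_mono (emb2_anti da (J2_val (F := F)))) (tm_mono (F := F) (l := l))
  rw [← hθ, ← mat_tl C, ← map_mul] at hW
  obtain ⟨r1, r2, r3, r4, r5⟩ := Fork.refl_val (show pl (Sum.inl (jc l) : II l) ≠ pl (Sum.inl (ib l) : II l) from jb)
  obtain ⟨k1, k2, k3, k4⟩ := Fork.scal_val (show pl (Sum.inl (jc l) : II l) ≠ pl (Sum.inl (ib l) : II l) from jb) (1 : F)
  simp only [Sum.swap_inl] at r1 r2 r3 r4 r5 k1 k2 k3 k4
  have ra : Fork.refl (Sum.inl (jc l)) (Sum.inl (ib l)) (Sum.inl (ia l)) = (Sum.inl (ia l) : II l) :=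
    r5 _ (by simpa using ja.symm) (by simp) (by simp) (by simpa using iab l)
  have rd : Fork.refl (Sum.inl (jc l)) (Sum.inl (ib l)) (Sum.inl d) = (Sum.inl d : II l) :=
    r5 _ (by simpa using dj) (by simp) (by simp) (by simpa using db)
  have pA : pl (Sum.inl (ia l) : II l) ≠ pl (Sum.inl (ib l) : II l) := iab l
  have pB : pl (Sum.inl d : II l) ≠ pl (Sum.inr (jc l) : II l) := dj
  refine pair_three h3 hW (z := Sum.inl d) (w := Sum.inr (jc l)) pA pB ?_ ?_ ?_ ?_ ?_ hA hB ?_ ?_
  · simp [Equiv.Perm.mul_apply, ra, Equiv.swap_apply_right]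
  · simp [Equiv.Perm.mul_apply, r4, Equiv.swap_apply_of_ne_of_ne dj.symm ja]
  · simp [Equiv.Perm.mul_apply, rd, Equiv.swap_apply_left]
  · simp [Equiv.Perm.mul_apply, r3, Equiv.swap_apply_of_ne_of_ne db.symm (iab l).symm]
  · simp [ra, rd, r4, r3, k4, k3, Fork.reflScal, sc, ja, ja.symm, iab l, (iab l).symm, jb, jb.symm, dj, dj.symm, da,
      da.symm, db, db.symm]
  · rw [hA, hB]
    exact S_comm pA pB (by simp) (by simpa using ja.symm) (by simp) (by simpa using jb.symm) 1 1
  · have h3F : (1 : F) + 1 + 1 = 0 := by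
      have := FiniteField.cast_card_eq_zero F
      rw [h3] at this
      simpa [← one_add_one_eq_two, show (3 : F) = 1 + 1 + 1 by norm_num] using this
    rw [← map_pow, pow_succ, pow_two, ue_add, ue_add, h3F, ue_zero', map_one]

theorem exists_comm (hl : 2 ≤ l) (hexc : l = 2 → Fintype.card F ≠ 2) {C : Central Γ ↥(OM F l)}
    {θ : Matrix.SpecialLinearGroup (Fin (l + 2)) F →* Γ} (hθ : ∀ g, mat C (θ g) = Fork.levi g) (g : SL2)
    (z : SL2 × Matrix.SpecialLinearGroup (Fin l) F) : Commute (kapG hl θ (tl C) g) (θ (blk hl z)) := by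
  obtain ⟨a, b⟩ := z
  rw [show blk hl (a, b) = emb2 (iab l) a * lowEmb l b from rfl, map_mul]
  have hpair : ∀ g a, Commute (C.π (kapG hl θ (tl C) g)) (C.π (θ (emb2 (iab l) a))) := fun g a => by
    have := mat_commute hl hθ g (a, 1)
    rw [show blk hl (a, 1) = emb2 (iab l) a * lowEmb l 1 from rfl, map_one, mul_one] at this
    exact π_commute C this
  have hlow : ∀ g b, Commute (C.π (kapG hl θ (tl C) g)) (C.π (θ (lowEmb l b))) := fun g b => by
    have := mat_commute hl hθ g (1, b)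
    rw [show blk hl (1, b) = emb2 (iab l) 1 * lowEmb l b from rfl, map_one, one_mul] at this
    exact π_commute C this
  refine Commute.mul_right ?_ ?_
  · by_cases h4 : 4 ≤ Fintype.card F
    · exact comm_perfect C (θ.comp (emb2 (iab l))) (SchurSLFinal.perfect 2 le_rfl fun _ => h4) _ (hpair g) a
    · have h : Fintype.card F ≤ 3 := by omega
      refine small_commute C h (θ.comp (emb2 (iab l))) _ (hpair g) ?_ a
      exact (small_commute C h (kapG hl θ (tl C)) _ (fun g => (hpair g (ue 1)).symm)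
        (pair_base hl hexc h hθ).symm g).symm
  · by_cases h3 : 3 ≤ l
    · exact comm_perfect C (θ.comp (lowEmb l)) (SchurSLFinal.perfect l (by omega) (fun e => by omega)) _ (hlow g) b
    obtain rfl : l = 2 := by omega
    by_cases h4 : 4 ≤ Fintype.card F
    · exact comm_perfect C (θ.comp (lowEmb 2)) (SchurSLFinal.perfect 2 le_rfl fun _ => h4) _ (hlow g) b
    · have := Fintype.one_lt_card (α := F)
      have h2 := hexc rfl
      have h : Fintype.card F ≤ 3 := by omega
      refine small_commute C h (θ.comp (lowEmb 2)) _ (hlow g) ?_ b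
      exact (small_commute C h (kapG hl θ (tl C)) _ (fun g => (hlow g (ue 1)).symm)
        (low_base hl (by omega) hθ rfl (ue 1) (ue_tv 1)).symm g).symm

/-- The fork in a central extension. -/
theorem exists_lift (hl : 2 ≤ l) (hexc : l = 2 → Fintype.card F ≠ 2) (C : Central Γ ↥(OM F l)) :
    ∃ (θ : Matrix.SpecialLinearGroup (Fin (l + 2)) F →* Γ) (t : Γ),
      (∀ g, mat C (θ g) = Fork.levi g) ∧ mat C t = tm F l ∧
      (θ (emb2 (iab l) (-1)) * kapG hl θ t (-1)) * (θ (emb2 (iab l) (-1)) * kapG hl θ t (-1)) = 1 ∧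
      (∀ x ∈ Subgroup.closure (Set.range θ ∪ {t}), C.π x = 1 →
        x ∈ Subgroup.zpowers (θ (emb2 (iab l) (-1)) * kapG hl θ t (-1))) ∧
      ∀ m ∈ OM F l, ∃ x ∈ Subgroup.closure (Set.range θ ∪ {t}), mat C x = m := by
  obtain ⟨θ, hθ⟩ := exists_levi hl hexc C
  set p : Matrix.SpecialLinearGroup (Fin (l + 2)) F := emb2 (jc_ia (two_one hl)) (J2 F)
  set t := θ p * kapG hl θ (tl C) (ue (-1) * le' 1 * ue (-1)) * (θ p)⁻¹ with ht
  have hmt : mat C t = tm F l := by
    rw [ht, map_mul, map_mul, map_inv, hθ, mat_kap C θ hl hθ, ← kapm_expr (two_one hl) (J2_val (F := F))]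
  have hk : kapG hl θ t = kapG hl θ (tl C) := MonoidHom.ext fun g =>
    conj_same C (π_eq C (hmt.trans (mat_tl C).symm)) _
  have hcomm : ∀ g z, Commute (kapG hl θ t g) (θ (blk hl z)) := fun g z => by
    rw [hk]; exact exists_comm hl hexc hθ g z
  set z := θ (emb2 (iab l) (-1)) * kapG hl θ t (-1) with hz
  have hcm : Commute (θ (emb2 (iab l) (-1))) (kapG hl θ t (-1)) := by
    have := hcomm (-1) (-1, 1)
    rw [show blk hl ((-1 : SL2), (1 : Matrix.SpecialLinearGroup (Fin l) F)) =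
      emb2 (iab l) (-1) * lowEmb l 1 from rfl, map_one, mul_one] at this
    exact this.symm
  have hzz : z * z = 1 := by
    rw [hz, ← pow_two, hcm.mul_pow, ← map_pow, ← map_pow, ← map_pow,
      show (-1 : SL2) ^ 2 = 1 by rw [pow_two]; exact neg_mul_self, map_one, map_one, map_one, one_mul]
  refine ⟨θ, t, hθ, hmt, hzz, ?_⟩
  set G0 := Subgroup.closure (Set.range θ ∪ {t}) with hG0
  have mθ : ∀ g, θ g ∈ G0 := fun g => Subgroup.subset_closure (Or.inl ⟨g, rfl⟩)
  have mt : t ∈ G0 := Subgroup.subset_closure (Or.inr rfl)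
  let Φ0 : Matrix.SpecialLinearGroup (Fin (l + 2)) F →* ↥G0 := θ.codRestrict G0 mθ
  let t0 : ↥G0 := ⟨t, mt⟩
  have hk0 : ∀ g, (kapG hl Φ0 t0 g).1 = kapG hl θ t g := fun g => rfl
  let z0 : ↥G0 := Φ0 (emb2 (iab l) (-1)) * kapG hl Φ0 t0 (-1)
  have hz0 : z0.1 = z := rfl
  have hzc : z0 ∈ Subgroup.center ↥G0 := by
    have h1 : C.π z = 1 := by
      refine Subtype.ext ?_
      show mat C z = 1
      rw [hz, map_mul, hθ, hk, mat_kap C θ hl hθ]
      exact kapm_neg _
    rw [Subgroup.mem_center_iff]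
    exact fun y => Subtype.ext (Subgroup.mem_center_iff.1 (C.central h1) y.1)
  haveI : (Subgroup.zpowers z0).Normal := ⟨fun a ha y => by
    have hac : a ∈ Subgroup.center ↥G0 := (Subgroup.zpowers_le.2 hzc) ha
    rw [Subgroup.mem_center_iff.1 hac y, mul_inv_cancel_right]
    exact ha⟩
  let q := QuotientGroup.mk' (Subgroup.zpowers z0)
  let π0 : ↥G0 →* GL (II l) F := (mat C).comp G0.subtype
  have hπz : Subgroup.zpowers z0 ≤ π0.ker := by
    rw [Subgroup.zpowers_le, MonoidHom.mem_ker]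
    show mat C z = 1
    rw [hz, map_mul, hθ, hk, mat_kap C θ hl hθ]
    exact kapm_neg _
  have hkq : ∀ g, kapG hl (q.comp Φ0) (q t0) g = q (kapG hl Φ0 t0 g) := fun g => by
    show q t0 * q (Φ0 _) * (q t0)⁻¹ = q (t0 * Φ0 _ * t0⁻¹)
    rw [map_mul, map_mul, map_inv]
  let D : Gluing F (↥G0 ⧸ Subgroup.zpowers z0) l :=
  { two := hl
    Φ := q.comp Φ0
    t := q t0
    comm := fun g w => by
      rw [hkq]
      exact (show Commute (kapG hl Φ0 t0 g) (Φ0 (blk hl w)) from Subtype.ext (hcomm g w)).map q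
    expr := by
      rw [hkq, MonoidHom.comp_apply, ← map_inv, ← map_mul, ← map_mul]
      congr 1
      refine Subtype.ext ?_
      show t = θ p * kapG hl θ t (ue (-1) * le' 1 * ue (-1)) * (θ p)⁻¹
      rw [hk]
    neg := by
      rw [hkq, MonoidHom.comp_apply, ← map_mul]
      exact (QuotientGroup.eq_one_iff _).2 (Subgroup.mem_zpowers z0)
    gen := by
      rw [eq_top_iff]
      rintro y -
      obtain ⟨⟨y, hy⟩, rfl⟩ := QuotientGroup.mk'_surjective (Subgroup.zpowers z0) y
      induction hy using Subgroup.closure_induction with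
      | mem a ha =>
        rcases ha with ⟨g, rfl⟩ | rfl
        · exact Subgroup.subset_closure (Or.inl ⟨g, rfl⟩)
        · exact Subgroup.subset_closure (Or.inr rfl)
      | one => rw [show (⟨1, _⟩ : ↥G0) = 1 from rfl, map_one]; exact one_mem _
      | mul a b ha hb iha ihb =>
        rw [show (⟨a * b, _⟩ : ↥G0) = ⟨a, ha⟩ * ⟨b, hb⟩ from rfl, map_mul]; exact mul_mem iha ihb
      | inv a ha iha => rw [show (⟨a⁻¹, _⟩ : ↥G0) = ⟨a, ha⟩⁻¹ from rfl, map_inv]; exact inv_mem iha
    π := QuotientGroup.lift _ π0 hπz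
    π_Φ := fun g => hθ g
    π_t := hmt }
  refine ⟨fun x hx hπx => ?_, fun m hm => ?_⟩
  swap
  · rw [OM, ← D.injective_range.2] at hm
    obtain ⟨y, rfl⟩ := hm
    obtain ⟨⟨y, hy⟩, rfl⟩ := QuotientGroup.mk'_surjective (Subgroup.zpowers z0) y
    exact ⟨y, hy, rfl⟩
  have hmem : (⟨x, hx⟩ : ↥G0) ∈ Subgroup.zpowers z0 := by
    rw [← QuotientGroup.eq_one_iff]
    refine D.injective_range.1 ?_
    rw [map_one]
    show mat C x = 1
    exact congrArg Subtype.val hπx
  obtain ⟨i, hi⟩ := Subgroup.mem_zpowers_iff.1 hmem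
  exact Subgroup.mem_zpowers_iff.2 ⟨i, by
    have := congrArg Subtype.val hi
    rwa [Subgroup.coe_zpow, hz0] at this⟩

end Cfsg.Agent.Small.SpinCover
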