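import Cfsg.Agent.Lib.Small.SpinCover.Universal
import Cfsg.Agent.S0296

/-!
The Schur multipliers of the simple orthogonal groups of plus type.
-/

set_option autoImplicit false
set_option linter.unusedSectionVars false
set_option linter.unusedSimpArgs false

namespace Cfsg.Agent.Small.SpinCover

open Matrix Cfsg.Agent.Lie.CTA Cfsg.Agent.Small.OmegaPres
open Cfsg.Agent.Small.SchurLifts
open Cfsg.Agent.Lie.PlusGen (pl pl_swap gens swap_ne)
open scoped commutatorElement

universe u v

variable {F : Type u} [Field F] [Fintype F] {l : ℕ}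

local notation "SL2" => Matrix.SpecialLinearGroup (Fin 2) F

variable (F l) in
/-- The cover of the simple group. -/
noncomputable def cov (hl : 2 ≤ l) : ↥(Spin F l) →* Cfsg.POmega F (Cfsg.quadFormPlus (l + 2) F) :=
  (QuotientGroup.mk' _).comp ((omEquiv F l hl).toMonoidHom.comp (CS F l).π)

theorem mem_ker_cov (hl : 2 ≤ l) {x : ↥(Spin F l)} :
    x ∈ (cov F l hl).ker ↔ (CS F l).π x ∈ Subgroup.center ↥(OM F l) := by
  rw [MonoidHom.mem_ker]
  show QuotientGroup.mk' _ (omEquiv F l hl ((CS F l).π x)) = 1 ↔ _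
  rw [QuotientGroup.mk'_apply, QuotientGroup.eq_one_iff, Subgroup.mem_center_iff, Subgroup.mem_center_iff]
  constructor
  · intro h y
    apply (omEquiv F l hl).injective
    rw [map_mul, map_mul]; exact h _
  · intro h y
    obtain ⟨z, rfl⟩ := (omEquiv F l hl).surjective y
    rw [← map_mul, ← map_mul, h z]

theorem ker_cov_central (hl : 2 ≤ l) : (cov F l hl).ker ≤ Subgroup.center ↥(Spin F l) := by
  intro x hx
  rw [mem_ker_cov, Subgroup.mem_center_iff] at hx
  rw [Subgroup.mem_center_iff]
  intro y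
  have : Commute x y := by
    refine comm_perfect (CS F l) (MonoidHom.id _) (spin_perfect hl) x (fun a => (hx _).symm) y
  exact this.eq.symm

theorem cov_surj (hl : 2 ≤ l) : Function.Surjective (cov F l hl) :=
  (QuotientGroup.mk'_surjective _).comp ((omEquiv F l hl).surjective.comp (CS F l).surj)

theorem card_spin_ker (hl : 2 ≤ l) (hexc : l = 2 → Fintype.card F ≠ 2) :
    Nat.card ↥(cov F l hl).ker = Nat.gcd 4 (Fintype.card F ^ (l + 2) - 1) := by
  classical
  obtain ⟨z, hzz, hz1, heven, hodd, hker⟩ := spin_ker (F := F) hl hexc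
  have h := card_center_omega (F := F) hl
  let f : ↥(cov F l hl).ker →* ↥(Subgroup.center ↥(OM F l)) :=
    ((CS F l).π.comp (cov F l hl).ker.subtype).codRestrict _ fun x => (mem_ker_cov hl).1 x.2
  have fs : Function.Surjective f := fun m => by
    obtain ⟨x, hx⟩ := (CS F l).surj m.1
    exact ⟨⟨x, (mem_ker_cov hl).2 (hx ▸ m.2)⟩, Subtype.ext hx⟩
  have hcard : Nat.card ↥(cov F l hl).ker = Nat.card f.ker * Nat.card ↥(Subgroup.center ↥(OM F l)) := by
    rw [Subgroup.card_eq_card_quotient_mul_card_subgroup f.ker,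
      Nat.card_congr (QuotientGroup.quotientKerEquivOfSurjective f fs).toEquiv, mul_comm]
  have hfk : Nat.card f.ker = if (2 : F) = 0 then 1 else 2 := by
    have hzk : z ∈ (cov F l hl).ker := (mem_ker_cov hl).2 (by
      rw [show (CS F l).π z = 1 from Subtype.ext hz1]; exact one_mem _)
    have mem : ∀ x : ↥(cov F l hl).ker, x ∈ f.ker ↔ (x.1 = 1 ∨ x.1 = z) := fun x => by
      rw [MonoidHom.mem_ker]
      refine ⟨fun e => hker _ (congrArg (fun m => m.1.1) e), fun e => Subtype.ext (Subtype.ext ?_)⟩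
      rcases e with e | e <;> show proj F l x.1 = 1 <;> rw [e]
      · exact map_one _
      · exact hz1
    split_ifs with h2
    · rw [Subgroup.card_eq_one, Subgroup.eq_bot_iff_forall]
      intro x hx
      rcases (mem x).1 hx with e | e
      · exact Subtype.ext e
      · exact Subtype.ext (e.trans (heven h2))
    · rw [Nat.card_eq_two_iff]
      refine ⟨1, ⟨⟨z, hzk⟩, (mem _).2 (Or.inr rfl)⟩, fun e => hodd h2 (congrArg (fun m => m.1.1) e).symm,
        Set.eq_univ_of_forall fun x => ?_⟩
      rcases (mem x.1).1 x.2 with e | e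
      · exact Or.inl (Subtype.ext (Subtype.ext e))
      · exact Or.inr (Subtype.ext (Subtype.ext e))
  rw [hcard, hfk, Nat.card_congr (Subgroup.centerCongr (omEquiv F l hl)).toEquiv]
  split_ifs at h ⊢ <;> omega

theorem exists_sign_lift (hl : 2 ≤ l) (heven : Even l) (h2 : (2 : F) ≠ 0) :
    ∃ x : ↥(Spin F l), x ∈ (cov F l hl).ker ∧ x * x = 1 ∧ proj F l x ≠ 1 := by
  obtain ⟨Φ, hΦ⟩ := exists_levi_lift (F := F) hl
  let d : Matrix.SpecialLinearGroup (Fin (l + 2)) F := ⟨Matrix.diagonal fun _ => (-1 : F), by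
    rw [Matrix.det_diagonal, Finset.prod_const, Finset.card_univ, Fintype.card_fin, (heven.add (by norm_num : Even 2)).neg_one_pow]⟩
  have hd : d * d = 1 := Subtype.ext (by
    rw [Matrix.SpecialLinearGroup.coe_mul, Matrix.SpecialLinearGroup.coe_one]
    show Matrix.diagonal _ * Matrix.diagonal _ = _
    rw [Matrix.diagonal_mul_diagonal, ← Matrix.diagonal_one]
    simp)
  have hm : IsMono d 1 (fun _ => (-1 : F)) := fun i => by
    funext r
    simp [d, Matrix.mulVec_single_one, Matrix.diagonal_apply, Pi.single_apply]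
  have hp : proj F l (Φ d) = Fork.levi d := by
    have hg : d ∈ Subgroup.closure {g : Matrix.SpecialLinearGroup (Fin (l + 2)) F |
        ∃ (i j : Fin (l + 2)) (h : i ≠ j) (c : F), g = Matrix.SpecialLinearGroup.transvection h c} := by
      rw [Cfsg.Agent.Classical.sl_closure_transvections]; exact Subgroup.mem_top d
    clear_value d
    clear hd hm
    induction hg using Subgroup.closure_induction with
    | mem x hx =>
      obtain ⟨i, j, hij, c, rfl⟩ := hx
      rw [show Matrix.SpecialLinearGroup.transvection hij c = tv' i j c by rw [tv', dif_pos hij], hΦ i j hij,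
        Fork.levi_tv hij]
      exact ep_snd (show pl (Sum.inl i : II l) ≠ pl (Sum.inr j : II l) from hij) c
    | one => rw [map_one, map_one, map_one]
    | mul a b _ _ ha hb => rw [map_mul, map_mul, map_mul, ha, hb]
    | inv a _ ha => rw [map_inv, map_inv, map_inv, ha]
  have hval : (Fork.levi d).1 = (-1 : Matrix (II l) (II l) F) := by
    refine Matrix.ext_of_mulVec_single fun z => ?_
    rw [(levi_mono hm).2.2, neg_mulVec, one_mulVec, ← Pi.single_neg]
    rcases z with z | z <;> simp [sc]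
  refine ⟨Φ d, ?_, by rw [← map_mul, hd, map_one], fun e => ?_⟩
  · rw [mem_ker_cov, Subgroup.mem_center_iff]
    intro y
    refine Subtype.ext (Units.ext ?_)
    show y.1.1 * (proj F l (Φ d)).1 = (proj F l (Φ d)).1 * y.1.1
    rw [hp, hval, mul_neg_one, neg_one_mul]
  · rw [hp] at e
    have := congrFun (congrFun (hval.symm.trans (congrArg Units.val e)) (Sum.inl (ia l))) (Sum.inl (ia l))
    simp at this
    exact h2 (by linear_combination -this)

theorem exists_order_four (hl : 2 ≤ l) (hodd : Odd l) (h2 : (2 : F) ≠ 0) {i : F} (hi : i * i = -1) :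
    ∃ x : ↥(Spin F l), x ∈ (cov F l hl).ker ∧ x * x ≠ 1 := by
  classical
  obtain ⟨Φ, hΦ⟩ := exists_levi_lift (F := F) hl
  have hi0 : i ≠ 0 := fun h => by rw [h] at hi; simp at hi
  have hinv : i⁻¹ = -i := inv_eq_of_mul_eq_one_right (by linear_combination -hi)
  have hΦp : ∀ g, proj F l (Φ g) = Fork.levi g := by
    intro g
    have hg : g ∈ Subgroup.closure {g : Matrix.SpecialLinearGroup (Fin (l + 2)) F |
        ∃ (i j : Fin (l + 2)) (h : i ≠ j) (c : F), g = Matrix.SpecialLinearGroup.transvection h c} := by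
      rw [Cfsg.Agent.Classical.sl_closure_transvections]; exact Subgroup.mem_top g
    induction hg using Subgroup.closure_induction with
    | mem x hx =>
      obtain ⟨a, b, hab, c, rfl⟩ := hx
      rw [show Matrix.SpecialLinearGroup.transvection hab c = tv' a b c by rw [tv', dif_pos hab], hΦ a b hab,
        Fork.levi_tv hab]
      exact ep_snd (show pl (Sum.inl a : II l) ≠ pl (Sum.inr b : II l) from hab) c
    | one => rw [map_one, map_one, map_one]
    | mul a b _ _ ha hb => rw [map_mul, map_mul, map_mul, ha, hb]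
    | inv a _ ha => rw [map_inv, map_inv, map_inv, ha]
  obtain ⟨t, ht⟩ := (CS F l).surj ⟨tm F l, tm_mem⟩
  have htm : proj F l t = tm F l := congrArg Subtype.val ht
  have hab := iab l
  let df : Fin (l + 2) → F := fun j => if j = ia l ∨ j = ib l then i else -1
  have hdet : ∏ j, df j = 1 := by
    rw [← Finset.mul_prod_erase _ _ (Finset.mem_univ (ia l)), ← Finset.mul_prod_erase _ _
      (Finset.mem_erase.2 ⟨hab.symm, Finset.mem_univ (ib l)⟩), Finset.prod_congr rfl (g := fun _ => (-1 : F))
      (fun j hj => by simp only [Finset.mem_erase] at hj; simp [df, hj.1, hj.2.1]), Finset.prod_const,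
      Finset.card_erase_of_mem (Finset.mem_erase.2 ⟨hab.symm, Finset.mem_univ _⟩),
      Finset.card_erase_of_mem (Finset.mem_univ _), Finset.card_univ, Fintype.card_fin,
      show l + 2 - 1 - 1 = l from rfl, hodd.neg_one_pow]
    simp [df]
    linear_combination -hi
  let d : Matrix.SpecialLinearGroup (Fin (l + 2)) F := ⟨Matrix.diagonal df, by rw [Matrix.det_diagonal, hdet]⟩
  let di : SL2 := ⟨!![i, 0; 0, i⁻¹], by rw [Matrix.det_fin_two_of]; simp [hi0]⟩
  have hm : IsMono d 1 df := fun j => by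
    funext r
    rw [Matrix.mulVec_single_one, Pi.single_apply]
    by_cases hr : r = j
    · subst hr; simp [d]
    · simp [d, hr]
  have hdd : d * d = emb2 (iab l) (-1 : SL2) := by
    refine Subtype.ext (Matrix.ext_of_mulVec_single fun j => ?_)
    have hneg : (-1 : SL2).1 = !![-1, 0; 0, -1] := by ext a b; fin_cases a <;> fin_cases b <;> simp
    rw [(emb2_diag (iab l) hneg), Matrix.SpecialLinearGroup.coe_mul, ← mulVec_mulVec, hm, Equiv.Perm.one_apply,
      hm.single, Equiv.Perm.one_apply]
    congr 1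
    by_cases h1 : j = ia l
    · simp [df, h1, hi]
    by_cases h3 : j = ib l
    · simp [df, h3, hab.symm, hi]
    · simp [df, h1, h3]
  have hdi : di * di = -1 := Subtype.ext (by
    rw [Matrix.SpecialLinearGroup.coe_mul]
    ext a b
    fin_cases a <;> fin_cases b <;> simp [di, Matrix.mul_apply, Fin.sum_univ_two, hi, hinv])
  set kap := kapG hl Φ t
  have hsgn : sgn2 di = di := Subtype.ext (by rw [sgn2_val]; simp [di])
  have ha := jc_ia (two_one hl)
  have hb : jc l ≠ ib l := jc_ib
  obtain ⟨r1, r2, r3, r4, r5⟩ := Fork.refl_val (show pl (Sum.inl (jc l) : II l) ≠ pl (Sum.inl (ib l) : II l) from hb)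
  obtain ⟨k1, k2, k3, k4⟩ := Fork.scal_val (show pl (Sum.inl (jc l) : II l) ≠ pl (Sum.inl (ib l) : II l) from hb) (1 : F)
  simp only [Sum.swap_inl] at r1 r2 r3 r4 r5 k1 k2 k3 k4
  have hmt : SMono (proj F l t) _ _ := htm.symm ▸ tm_mono
  have ku : ∀ s : F, kap (ue s) = ep F (Sum.inl (ia l)) (Sum.inl (ib l)) s := fun s => by
    show t * Φ (emb2 ha.symm (ue s)) * t⁻¹ = _
    rw [emb2_ue ha.symm, hΦ _ _ ha.symm, spin_conj hmt (show pl (Sum.inl (ia l) : II l) ≠ pl (Sum.inr (jc l) : II l) from ha.symm),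
      r3, r5 _ (by simpa using ha.symm) (by simp) (by simp) (by simpa using iab l), k3]
    simp [Fork.reflScal, ha.symm, iab l]
  have kl : ∀ s : F, kap (le' s) = ep F (Sum.inr (ib l)) (Sum.inr (ia l)) s := fun s => by
    show t * Φ (emb2 ha.symm (le' s)) * t⁻¹ = _
    rw [emb2_le' ha.symm, hΦ _ _ ha, spin_conj hmt (show pl (Sum.inl (jc l) : II l) ≠ pl (Sum.inr (ia l) : II l) from ha),
      r1, r5 _ (by simp) (by simpa using iab l) (by simpa using ha.symm) (by simp), k1]
    simp [Fork.reflScal, ha.symm, iab l]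
  have hdm : SMono (proj F l (Φ d)) _ _ := (hΦp d).symm ▸ levi_mono hm
  have hcomm : Commute (Φ d) (kap di) := by
    have e : (MulAut.conj (Φ d)).toMonoidHom.comp kap = kap.comp sgn2 := by
      refine sl2_hom_ext (fun s => ?_) (fun s => ?_)
      · simp only [MonoidHom.comp_apply, MulEquiv.coe_toMonoidHom, MulAut.conj_apply]
        rw [sgn2_ue, ku, ku, spin_conj hdm (show pl (Sum.inl (ia l) : II l) ≠ pl (Sum.inl (ib l) : II l) from hab)]
        simp [sc, df, hi]
      · simp only [MonoidHom.comp_apply, MulEquiv.coe_toMonoidHom, MulAut.conj_apply]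
        rw [sgn2_le', kl, kl, spin_conj hdm (show pl (Sum.inr (ib l) : II l) ≠ pl (Sum.inr (ia l) : II l) from hab.symm)]
        simp [sc, df, hinv, hi]
    have := DFunLike.congr_fun e di
    simp only [MonoidHom.comp_apply, MulEquiv.coe_toMonoidHom, MulAut.conj_apply, hsgn] at this
    exact mul_inv_eq_iff_eq_mul.1 this
  refine ⟨Φ d * kap di, ?_, ?_⟩
  · have hkd : proj F l (kap di) = kapm (two_one hl) di := by
      show proj F l (t * Φ _ * t⁻¹) = _
      rw [map_mul, map_mul, map_inv, htm, hΦp]; rfl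
    have hval : (Fork.levi d * kapm (two_one hl) di).1 = (-1 : Matrix (II l) (II l) F) := by
      have m1 := levi_mono hm
      have m2 := levi_mono (emb2_diag ha.symm (show di.1 = !![i, 0; 0, i⁻¹] from rfl))
      refine Matrix.ext_of_mulVec_single fun z => ?_
      show ((Fork.levi d) * (tm F l * Fork.levi (emb2 _ di) * (tm F l)⁻¹)).1 *ᵥ _ = _
      obtain ⟨w, rfl⟩ := (Fork.refl (Sum.inl (jc l) : II l) (Sum.inl (ib l))).surjective z
      have hk : Fork.reflScal (Sum.inl (jc l)) (Sum.inl (ib l)) (1 : F) w ≠ 0 :=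
        left_ne_zero_of_mul_eq_one (tm_mono.2.1 w)
      have einv : ((tm F l)⁻¹).1 *ᵥ Pi.single (Fork.refl (Sum.inl (jc l)) (Sum.inl (ib l)) w) 1 =
          Pi.single w (Fork.reflScal (Sum.inl (jc l)) (Sum.inl (ib l)) (1 : F) w)⁻¹ := by
        have e := congrArg (((tm F l)⁻¹).1 *ᵥ ·)
          (tm_mono.mulVec w (Fork.reflScal (Sum.inl (jc l)) (Sum.inl (ib l)) (1 : F) w)⁻¹)
        simp only [mulVec_mulVec, ← Units.val_mul, inv_mul_cancel, Units.val_one, one_mulVec, inv_mul_cancel₀ hk] at e
        exact e.symm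
      rw [Units.val_mul, Units.val_mul, Units.val_mul, ← mulVec_mulVec, ← mulVec_mulVec, ← mulVec_mulVec, einv,
        m2.mulVec, tm_mono.mulVec, m1.mulVec, neg_mulVec, one_mulVec, ← Pi.single_neg]
      have e0 : ∀ v : II l, Sum.map (⇑(1 : Equiv.Perm (Fin (l + 2)))) (⇑(1 : Equiv.Perm (Fin (l + 2)))) v = v :=
        fun v => by rcases v with a | a <;> rfl
      simp only [Equiv.sumCongr_apply, e0]
      refine congrArg _ ?_
      rcases w with j | j <;> by_cases hj : j = jc l <;> by_cases hjb : j = ib l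
      all_goals try subst hj
      all_goals try subst hjb
      all_goals first
        | exact absurd rfl hb
        | (simp [sc, df, r1, r2, r3, r4, k1, k2, k3, k4, ha, ha.symm, hb, hb.symm, hab, hab.symm, hi, hinv]; done)
        | (rw [r5 _ (by simp [*]) (by simp [*]) (by simp [*]) (by simp [*])]
           by_cases hja : j = ia l <;> simp [sc, df, Fork.reflScal, *])
    rw [mem_ker_cov, Subgroup.mem_center_iff]
    intro y
    refine Subtype.ext (Units.ext ?_)
    show y.1.1 * (proj F l (Φ d * kap di)).1 = (proj F l (Φ d * kap di)).1 * y.1.1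
    rw [map_mul, hΦp, hkd, hval, mul_neg_one, neg_one_mul]
  · rw [← pow_two, hcomm.mul_pow, pow_two, pow_two, ← map_mul, ← map_mul, hdd, hdi]
    intro e
    have hs := spin_neg hl Φ (fun g => hΦp g) t htm
    rw [e] at hs
    have := congrFun (congrFun hs (fun _ => 0)) (fun _ => 0)
    simp at this
    exact h2 (by linear_combination this)

/-- The cover and the bound together. -/
theorem hasSchur (hl : 2 ≤ l) (hexc : l = 2 → Fintype.card F ≠ 2) {A : Type v} [CommGroup A]
    (e : ↥(cov F l hl).ker ≃* A) :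
    Cfsg.HasSchurMultiplier (Cfsg.POmega F (Cfsg.quadFormPlus (l + 2) F)) A := by
  haveI : Finite ↥(Spin F l) := inferInstance
  have hperf : commutator (Cfsg.POmega F (Cfsg.quadFormPlus (l + 2) F)) = ⊤ := by
    rw [← top_le_iff, ← Subgroup.map_top_of_surjective _ (cov_surj (F := F) hl), ← spin_perfect hl, commutator_def,
      commutator_def, Subgroup.map_commutator]
    exact Subgroup.commutator_mono le_top le_top
  refine ⟨⟨↥(Spin F l), inferInstance, inferInstance, cov F l hl,
    ⟨cov_surj hl, ker_cov_central hl, (spin_perfect (F := F) hl).symm ▸ le_top⟩, ⟨e⟩⟩, fun Γ _ _ σ hσ => ?_⟩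
  let mk : ↥(OM F l) →* Cfsg.POmega F (Cfsg.quadFormPlus (l + 2) F) :=
    (QuotientGroup.mk' _).comp (omEquiv F l hl).toMonoidHom
  let P : Subgroup (Γ × ↥(OM F l)) := (σ.comp (MonoidHom.fst _ _)).eqLocus (mk.comp (MonoidHom.snd _ _))
  let C : Central ↥P ↥(OM F l) :=
  { π := (MonoidHom.snd _ _).comp P.subtype
    surj := fun m => by
      obtain ⟨a, ha⟩ := hσ.1 (mk m)
      exact ⟨⟨(a, m), ha⟩, rfl⟩
    central := fun x hx => by
      have h1 : x.1.2 = 1 := hx
      have h2 : σ x.1.1 = 1 := by rw [show σ x.1.1 = mk x.1.2 from x.2, h1, map_one]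
      rw [Subgroup.mem_center_iff]
      exact fun y => Subtype.ext (Prod.ext (Subgroup.mem_center_iff.1 (hσ.2.1 h2) _)
        (by show y.1.2 * x.1.2 = x.1.2 * y.1.2; rw [h1, mul_one, one_mul])) }
  obtain ⟨ρ, hρ⟩ := spin_universal hl hexc C
  let f : ↥(Spin F l) →* Γ := ((MonoidHom.fst _ _).comp P.subtype).comp ρ
  have hf : ∀ s, σ (f s) = cov F l hl s := fun s =>
    ((ρ s).2 : σ (ρ s).1.1 = mk (ρ s).1.2).trans (congrArg mk (DFunLike.congr_fun hρ s))
  have hΓ : commutator Γ = ⊤ := by
    rw [eq_top_iff]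
    intro g _
    obtain ⟨h, hh, hgh⟩ : σ g ∈ (commutator Γ).map σ := by
      rw [commutator_def, Subgroup.map_commutator, Subgroup.map_top_of_surjective σ hσ.1, ← commutator_def, hperf]
      exact Subgroup.mem_top _
    have : h⁻¹ * g ∈ σ.ker := by rw [MonoidHom.mem_ker, map_mul, map_inv, hgh, inv_mul_cancel]
    simpa using mul_mem hh (hσ.2.2 this)
  have hfs : Function.Surjective f := by
    rw [← MonoidHom.range_eq_top, eq_top_iff, ← hΓ]
    exact SchurSLFinal.commutator_le_range ⟨σ, hσ.1, hσ.2.1⟩ (cov F l hl) (cov_surj hl) f (MonoidHom.ext hf)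
  let g : ↥(cov F l hl).ker →* ↥σ.ker :=
    (f.comp (cov F l hl).ker.subtype).codRestrict _ fun x => by
      rw [MonoidHom.mem_ker]
      exact (hf x.1).trans x.2
  refine ⟨g.comp e.symm.toMonoidHom, fun k => ?_⟩
  obtain ⟨s, hs⟩ := hfs k.1
  have hs' : s ∈ (cov F l hl).ker := by rw [MonoidHom.mem_ker, ← hf, hs]; exact k.2
  refine ⟨e ⟨s, hs'⟩, Subtype.ext ?_⟩
  show f ((e.symm (e ⟨s, hs'⟩)).1) = k.1
  rw [e.symm_apply_apply]
  exact hs

/-- Odd rank: a cyclic multiplier. -/
theorem odd_rank (hl : 2 ≤ l) (hexc : l = 2 → Fintype.card F ≠ 2) (hodd : Odd l) :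
    Cfsg.HasCyclicSchurMultiplier (Cfsg.POmega F (Cfsg.quadFormPlus (l + 2) F))
      (Nat.gcd 4 (Fintype.card F ^ (l + 2) - 1)) := by
  classical
  have hcard := card_spin_ker (F := F) hl hexc
  set n := Nat.gcd 4 (Fintype.card F ^ (l + 2) - 1) with hn
  have hn4 : n ∣ 4 := Nat.gcd_dvd_left _ _
  have hcyc : IsCyclic ↥(cov F l hl).ker := by
    have hle := Nat.le_of_dvd (by norm_num) hn4
    have hpos : 0 < n := Nat.gcd_pos_of_pos_left _ (by norm_num)
    have h3 : n = 1 ∨ n = 2 ∨ n = 4 := by
      obtain ⟨j, hj, e⟩ := (Nat.dvd_prime_pow Nat.prime_two).1 (show n ∣ 2 ^ 2 from hn4)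
      rw [e]
      interval_cases j <;> norm_num
    rcases h3 with h | h | h
    · haveI : Subsingleton ↥(cov F l hl).ker := (Nat.card_eq_one_iff_unique.1 (hcard.trans h)).1
      infer_instance
    · haveI : Fact (Nat.Prime 2) := ⟨Nat.prime_two⟩
      exact isCyclic_of_prime_card (hcard.trans h)
    · have h4 : 4 ∣ Fintype.card F ^ (l + 2) - 1 := h ▸ Nat.gcd_dvd_right _ _
      have hq : Fintype.card F % 4 = 1 := by
        have hpw : Fintype.card F ^ (l + 2) % 4 = 1 := by
          have : 1 ≤ Fintype.card F ^ (l + 2) := Nat.one_le_pow _ _ Fintype.card_pos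
          omega
        obtain ⟨k, hk⟩ := hodd
        rw [Nat.pow_mod] at hpw
        have := Nat.mod_lt (Fintype.card F) (show 0 < 4 by norm_num)
        rcases (show Fintype.card F % 4 = 0 ∨ Fintype.card F % 4 = 1 ∨ Fintype.card F % 4 = 2 ∨ Fintype.card F % 4 = 3
          by omega) with e | e | e | e <;> rw [e] at hpw
        · simp at hpw
        · exact e
        · have : 4 ∣ 2 ^ (l + 2) := ⟨2 ^ l, by ring⟩
          omega
        · rw [hk, show 2 * k + 1 + 2 = 2 * (k + 1) + 1 by ring, pow_succ, pow_mul, Nat.mul_mod, Nat.pow_mod] at hpw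
          norm_num at hpw
      have h2 : (2 : F) ≠ 0 := Cfsg.Agent.Classical.OOmega.two_ne_of_odd (Nat.odd_iff.mpr (by omega))
      obtain ⟨i, hi⟩ := FiniteField.isSquare_neg_one_iff.2 (show Fintype.card F % 4 ≠ 3 by omega)
      obtain ⟨x, hx, hxx⟩ := exists_order_four hl hodd h2 hi.symm
      haveI : Finite ↥(cov F l hl).ker := inferInstance
      refine isCyclic_of_orderOf_eq_card ⟨x, hx⟩ ?_
      rw [hcard, h, show (4 : ℕ) = 2 ^ (1 + 1) by norm_num]
      refine orderOf_eq_prime_pow (fun e => hxx ?_) ?_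
      · simpa [pow_two] using congrArg Subtype.val e
      · have := pow_card_eq_one' (G := ↥(cov F l hl).ker) (x := ⟨x, hx⟩)
        rw [hcard, h] at this
        exact this
  haveI := hcyc
  exact hasSchur hl hexc (mulEquivOfCyclicCardEq (by rw [hcard, Nat.card_congr Multiplicative.toAdd, Nat.card_zmod]))

/-- Even rank: a four-group or the trivial group. -/
theorem even_rank (hl : 2 ≤ l) (hexc : l = 2 → Fintype.card F ≠ 2) (heven : Even l) :
    Cfsg.HasSchurMultiplier (Cfsg.POmega F (Cfsg.quadFormPlus (l + 2) F))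
      (Multiplicative (ZMod (Nat.gcd 2 (Fintype.card F ^ (l + 2) - 1)) × ZMod (Nat.gcd 2 (Fintype.card F ^ (l + 2) - 1)))) := by
  classical
  have hcard := card_spin_ker (F := F) hl hexc
  obtain ⟨k, hk⟩ := heven.add (show Even 2 by norm_num)
  have hsq : Fintype.card F ^ (l + 2) = (Fintype.card F ^ k) ^ 2 := by rw [← pow_mul, hk]; ring_nf
  have hpos : 1 ≤ Fintype.card F ^ (l + 2) := Nat.one_le_pow _ _ Fintype.card_pos
  by_cases h2 : (2 : F) = 0
  · haveI : CharP F 2 := CharTwo.of_one_ne_zero_of_two_eq_zero one_ne_zero h2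
    have hev : Fintype.card F % 2 = 0 := FiniteField.even_card_of_char_two (F := F) (ringChar.eq F 2)
    have hp : Fintype.card F ^ (l + 2) % 2 = 0 := by rw [Nat.pow_mod, hev]; simp
    have g2 : Nat.gcd 2 (Fintype.card F ^ (l + 2) - 1) = 1 := by
      rw [Nat.gcd_rec, show (Fintype.card F ^ (l + 2) - 1) % 2 = 1 by omega]; rfl
    have g4 : Nat.gcd 4 (Fintype.card F ^ (l + 2) - 1) = 1 :=
      Nat.Coprime.pow_left 2 (show Nat.Coprime 2 _ from g2)
    rw [g2]
    haveI : Subsingleton ↥(cov F l hl).ker := (Nat.card_eq_one_iff_unique.1 (hcard.trans g4)).1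
    haveI : Unique ↥(cov F l hl).ker := uniqueOfSubsingleton 1
    haveI : Unique (Multiplicative (ZMod 1 × ZMod 1)) :=
      { default := 1, uniq := fun a => Subsingleton.elim (α := ZMod 1 × ZMod 1) a 1 }
    exact hasSchur hl hexc (MulEquiv.ofUnique)
  have hodd : Fintype.card F % 2 = 1 := FiniteField.odd_card_of_char_ne_two fun h => h2 (by
    haveI := ringChar.of_eq h
    exact CharTwo.two_eq_zero)
  have hp : Fintype.card F ^ (l + 2) % 4 = 1 := by
    rw [hsq]
    have : (Fintype.card F ^ k) % 2 = 1 := by rw [Nat.pow_mod, hodd]; simp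
    rw [pow_two, Nat.mul_mod]
    rcases (show Fintype.card F ^ k % 4 = 1 ∨ Fintype.card F ^ k % 4 = 3 by omega) with e | e <;> rw [e]
  have g2 : Nat.gcd 2 (Fintype.card F ^ (l + 2) - 1) = 2 := Nat.gcd_eq_left (by omega)
  have g4 : Nat.gcd 4 (Fintype.card F ^ (l + 2) - 1) = 4 := Nat.gcd_eq_left (by omega)
  rw [g2]
  rw [g4] at hcard
  obtain ⟨x, hx, hxx, hx1⟩ := exists_sign_lift hl heven h2
  obtain ⟨z, hzz, hz1, -, hzne, hker⟩ := spin_ker (F := F) hl hexc
  have hzk : z ∈ (cov F l hl).ker := (mem_ker_cov hl).2 (by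
    rw [show (CS F l).π z = 1 from Subtype.ext hz1]; exact one_mem _)
  have hexp : ∀ y : ↥(cov F l hl).ker, y * y = 1 := by
    haveI : Finite ↥(cov F l hl).ker := inferInstance
    letI : Fintype ↥(cov F l hl).ker := Fintype.ofFinite _
    let a : ↥(cov F l hl).ker := ⟨x, hx⟩
    let b : ↥(cov F l hl).ker := ⟨z, hzk⟩
    have hab : a * b = b * a := Subtype.ext ((Subgroup.mem_center_iff.1 (ker_cov_central hl hzk) x))
    have n1 : a ≠ 1 := fun e => hx1 (by
      rw [show x = 1 from congrArg Subtype.val e, map_one])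
    have n2 : b ≠ 1 := fun e => hzne h2 (congrArg Subtype.val e)
    have n3 : a ≠ b := fun e => hx1 (by rw [show x = z from congrArg Subtype.val e, hz1])
    have ha2 : a * a = 1 := Subtype.ext hxx
    have hb2 : b * b = 1 := Subtype.ext hzz
    have m1 : a * b ≠ 1 := fun e => n3 (by
      calc a = a * b * b := by rw [mul_assoc, hb2, mul_one]
        _ = b := by rw [e, one_mul])
    have m2 : a * b ≠ a := fun e => n2 (mul_eq_left.1 e)
    have m3 : a * b ≠ b := fun e => n1 (mul_eq_right.1 e)
    have hs : ({1, a, b, a * b} : Finset ↥(cov F l hl).ker) = Finset.univ := by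
      rw [← Finset.card_eq_iff_eq_univ, Finset.card_insert_of_notMem (by simp [n1.symm, n2.symm, m1.symm]),
        Finset.card_insert_of_notMem (by simp [n3, m2.symm]), Finset.card_pair m3.symm,
        ← Nat.card_eq_fintype_card, hcard]
    intro y
    have hy := Finset.mem_univ y
    rw [← hs] at hy
    simp only [Finset.mem_insert, Finset.mem_singleton] at hy
    rcases hy with rfl | rfl | rfl | rfl
    · exact one_mul 1
    · exact ha2
    · exact hb2
    · calc a * b * (a * b) = a * (b * a) * b := by group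
        _ = a * a * (b * b) := by rw [← hab]; group
        _ = 1 := by rw [ha2, hb2, one_mul]
  haveI : IsKleinFour ↥(cov F l hl).ker := ⟨hcard, by
    refine (Nat.prime_two.eq_one_or_self_of_dvd _ (Monoid.exponent_dvd_of_forall_pow_eq_one fun y => by
      rw [pow_two]; exact hexp y)).resolve_left fun h => ?_
    haveI := Monoid.exp_eq_one_iff.1 h
    rw [Nat.card_eq_one_iff_unique.2 ⟨inferInstance, inferInstance⟩] at hcard
    norm_num at hcard⟩
  haveI : IsKleinFour (Multiplicative (ZMod 2 × ZMod 2)) := inferInstance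
  exact hasSchur hl hexc (IsKleinFour.nonempty_mulEquiv).some

end Cfsg.Agent.Small.SpinCover
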