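import Cfsg.Agent.Lib.Small.SpinCover.Clifford
import Cfsg.Agent.Lib.Small.OmegaPres.Centre

/-!
A double cover of the commutator subgroup of the orthogonal group of plus type, as a group of pairs.
-/

set_option autoImplicit false
set_option linter.unusedSectionVars false
set_option linter.unusedSimpArgs false

namespace Cfsg.Agent.Small.SpinCover

open Matrix Cfsg.Agent.Lie.CTA Cfsg.Agent.Small.OmegaPres
open Cfsg.Agent.Lie.PlusGen (pl pl_swap gens swap_ne)
open scoped commutatorElement

section Ring

variable {R : Type*} [Ring R]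

theorem jsq {a b : R} (ha : a * a = 0) (hb : b * b = 0) (hab : a * b * a = a) (hba : b * a * b = b) :
    ((1 - a) * (1 + b) * (1 - a)) * ((1 - a) * (1 + b) * (1 - a)) = 1 - 2 * (a * b + b * a) := by
  have e : (1 - a) * (1 + b) * (1 - a) = (1 - (a * b + b * a)) + (b - a) := by
    have : (1 - a) * (1 + b) * (1 - a) = 1 - (a * b + b * a) + (b - a) + (a * a - a + a * b * a) := by noncomm_ring
    rw [this, ha, hab]; abel
  set E := a * b + b * a with hE
  have hEa : E * a = a := by rw [hE, add_mul, mul_assoc b a a, ha, mul_zero, add_zero, hab]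
  have hEb : E * b = b := by rw [hE, add_mul, mul_assoc a b b, hb, mul_zero, zero_add, hba]
  have haE : a * E = a := by rw [hE, mul_add, ← mul_assoc, ha, zero_mul, zero_add, ← mul_assoc, hab]
  have hbE : b * E = b := by rw [hE, mul_add, ← mul_assoc b b, hb, zero_mul, add_zero, ← mul_assoc, hba]
  have hEE : E * E = E := by
    calc E * E = E * a * b + E * b * a := by rw [hE]; noncomm_ring
      _ = E := by rw [hEa, hEb]
  rw [e]
  calc (1 - E + (b - a)) * (1 - E + (b - a))
      = 1 - 2 * E + E * E + (b - E * b) + (b - b * E) - (a - E * a) - (a - a * E) + (b * b + a * a - (a * b + b * a)) := by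
        noncomm_ring
    _ = _ := by rw [hEE, hEa, hEb, haE, hbE, ha, hb, ← hE]; noncomm_ring

theorem two_idem {P Q : R} (hP : P * P = P) (hQ : Q * Q = Q) (h : Commute P Q) :
    (1 - 2 * (P * (1 - Q) + Q * (1 - P))) * (1 - 2 * (P * Q + (1 - Q) * (1 - P))) = -1 := by
  set E := P * Q + (1 - Q) * (1 - P) with hE
  have e : P * (1 - Q) + Q * (1 - P) = 1 - E := by
    rw [hE]
    calc P * (1 - Q) + Q * (1 - P) = P + Q - P * Q - Q * P := by noncomm_ring
      _ = _ := by noncomm_ring
  have hEE : E * E = E := by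
    have p1 : P * (1 - P) = 0 := by rw [mul_sub, mul_one, hP, sub_self]
    have p2 : (1 - P) * P = 0 := by rw [sub_mul, one_mul, hP, sub_self]
    have q1 : Q * (1 - Q) = 0 := by rw [mul_sub, mul_one, hQ, sub_self]
    have pp : (1 - P) * (1 - P) = 1 - P := by rw [mul_sub, mul_one, p2, sub_zero]
    have qq : (1 - Q) * (1 - Q) = 1 - Q := by
      rw [sub_mul, one_mul, q1, sub_zero]
    have c1 : Commute Q P := h.symm
    have c2 : Commute (1 - P) (1 - Q) := ((Commute.one_left _).sub_left ((Commute.one_right _).sub_right h))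
    have c3 : Commute P (1 - Q) := (Commute.one_right _).sub_right h
    calc E * E = P * (Q * P) * Q + P * (Q * (1 - Q)) * (1 - P) + (1 - Q) * ((1 - P) * P) * Q +
          (1 - Q) * ((1 - P) * (1 - Q)) * (1 - P) := by rw [hE]; noncomm_ring
      _ = E := by
        rw [c1.eq, q1, p2, c2.eq, mul_zero, zero_mul, mul_zero, zero_mul, add_zero, add_zero, hE]
        congr 1
        · rw [← mul_assoc, hP, mul_assoc, hQ]
        · rw [← mul_assoc, qq, mul_assoc, pp]
  rw [e]
  calc (1 - 2 * (1 - E)) * (1 - 2 * E) = -1 + 4 * E - 4 * (E * E) := by noncomm_ring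
    _ = -1 := by rw [hEE, add_sub_cancel_right]

end Ring

variable {F : Type*} [Field F] [Fintype F] {l : ℕ}

local notation "MM" => Matrix (Fin (l + 2) → Fin 2) (Fin (l + 2) → Fin 2) F

/-- A vector as an operator. -/
def cv : (II l → F) →ₗ[F] MM := Fintype.linearCombination F (cl F)

theorem cv_single (z : II l) (c : F) : cv (Pi.single z c) = (c • cl F z : MM) := by
  rw [cv, Fintype.linearCombination_apply_single]

theorem cv_anti (v : II l → F) (z : II l) : cv v * cl F z + cl F z * cv v = (v z.swap • 1 : MM) := by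
  rw [cv, Fintype.linearCombination_apply, Finset.sum_mul, Finset.mul_sum, ← Finset.sum_add_distrib,
    Finset.sum_eq_single z.swap]
  · rw [smul_mul_assoc, mul_smul_comm, ← smul_add, cl_anti, if_pos (Sum.swap_swap z).symm]
  · intro w _ hw
    rw [smul_mul_assoc, mul_smul_comm, ← smul_add, cl_anti, if_neg, smul_zero]
    intro e
    exact hw (by rw [e, Sum.swap_swap])
  · intro h; exact absurd (Finset.mem_univ _) h

theorem one_ne_zero' : (1 : MM) ≠ 0 := fun h => by
  have := congrFun (congrFun h (fun _ => 0)) (fun _ => 0)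
  simp at this

theorem cv_inj : Function.Injective (cv : (II l → F) →ₗ[F] MM) := by
  intro v w h
  funext z
  have e : (v z • 1 : MM) = w z • 1 := by
    have := congrArg (fun M : MM => M * cl F z.swap + cl F z.swap * M) h
    simpa only [cv_anti, Sum.swap_swap] using this
  have := congrFun (congrFun e (fun _ => 0)) (fun _ => 0)
  simpa using this

/-- The operator and the isometry agree. -/
def Agree (U : MMˣ) (g : GL (II l) F) : Prop := ∀ v, (U : MM) * cv v = cv (g.1 *ᵥ v) * U

theorem agree_unique {U : MMˣ} {g g' : GL (II l) F} (h : Agree U g) (h' : Agree U g') : g = g' := by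
  refine Units.ext (Matrix.ext_of_mulVec_single fun z => cv_inj ?_)
  exact (Units.isUnit U).mul_right_cancel ((h _).symm.trans (h' _))

theorem agree_one : Agree (1 : MMˣ) (1 : GL (II l) F) := fun v => by simp

theorem agree_mul {U U' : MMˣ} {g g' : GL (II l) F} (h : Agree U g) (h' : Agree U' g') : Agree (U * U') (g * g') :=
  fun v => by rw [Units.val_mul, mul_assoc, h', ← mul_assoc, h, mulVec_mulVec, ← Units.val_mul, mul_assoc]

theorem agree_of_single {U : MMˣ} {g : GL (II l) F}
    (h : ∀ z, (U : MM) * cl F z = cv (g.1 *ᵥ Pi.single z 1) * U) : Agree U g := by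
  intro v
  have e : (LinearMap.mulLeft F (U : MM)).comp cv =
      (LinearMap.mulRight F (U : MM)).comp (cv.comp g.1.mulVecLin) := by
    refine LinearMap.pi_ext fun z c => ?_
    simp only [LinearMap.comp_apply, LinearMap.mulLeft_apply, LinearMap.mulRight_apply, Matrix.mulVecLin_apply]
    rw [show (Pi.single z c : II l → F) = c • Pi.single z 1 by rw [← Pi.single_smul, smul_eq_mul, mul_one],
      mulVec_smul, map_smul, map_smul, cv_single, one_smul, mul_smul_comm, smul_mul_assoc, h]
  exact LinearMap.congr_fun e v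

theorem cl_xyx {x y : II l} (h : y ≠ x.swap) : cl F x * cl F y * cl F x = (0 : MM) := by
  rw [mul_assoc, cl_swap x y h, mul_neg, ← mul_assoc, cl_sq, zero_mul, neg_zero]

theorem prod_sq {x y : II l} (h : pl x ≠ pl y) : (cl F x * cl F y) * (cl F x * cl F y) = (0 : MM) := by
  rw [← mul_assoc, cl_xyx (fun e => h (by rw [e, pl_swap])), zero_mul]

variable (F) in
/-- The operator of a root element. -/
noncomputable def eu (x y : II l) (t : F) : MMˣ :=
  if h : pl x ≠ pl y then
    ⟨1 + t • (cl F x * cl F y), 1 - t • (cl F x * cl F y),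
      by rw [add_mul, mul_sub, mul_sub, smul_mul_smul_comm, prod_sq h]; simp,
      by rw [sub_mul, mul_add, mul_add, smul_mul_smul_comm, prod_sq h]; simp⟩
  else 1

theorem eu_val {x y : II l} (h : pl x ≠ pl y) (t : F) : (eu F x y t : MM) = 1 + t • (cl F x * cl F y) := by
  rw [eu, dif_pos h]

theorem eu_add {x y : II l} (h : pl x ≠ pl y) (t u : F) : eu F x y t * eu F x y u = eu F x y (t + u) :=
  Units.ext (by
    rw [Units.val_mul, eu_val h, eu_val h, eu_val h, add_mul, mul_add, mul_add, smul_mul_smul_comm, prod_sq h, add_smul]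
    simp; abel)

theorem eu_inv {x y : II l} (h : pl x ≠ pl y) (t : F) : (eu F x y t)⁻¹ = eu F x y (-t) := by
  rw [inv_eq_iff_mul_eq_one, eu_add h, add_neg_cancel]
  exact Units.ext (by rw [eu_val h]; simp)

theorem eu_agree {x y : II l} (h : pl x ≠ pl y) (t : F) : Agree (eu F x y t) (S x y t) := by
  refine agree_of_single fun z => ?_
  set d : MM := (if z = y.swap then cl F x else 0) - (if z = x.swap then cl F y else 0) with hd
  have hs : cv ((S x y t).1 *ᵥ Pi.single z 1) = (cl F z + t • d : MM) := by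
    rw [S_single h]
    by_cases h1 : y.swap = z <;> by_cases h2 : x.swap = z <;>
      simp [hd, h1, h2, cv_single, eq_comm (a := z), sub_eq_add_neg, smul_add] <;> abel
  have hd0 : d * (cl F x * cl F y) = 0 := by
    have a1 : cl F x * (cl F x * cl F y) = (0 : MM) := by rw [← mul_assoc, cl_sq, zero_mul]
    have a2 : cl F y * (cl F x * cl F y) = (0 : MM) := by
      rw [← mul_assoc, cl_xyx (fun e => h (by rw [e, pl_swap]))]
    rw [hd]
    split_ifs <;> simp [sub_mul, a1, a2]
  rw [hs, eu_val h, add_mul, one_mul, smul_mul_assoc, cl_move x y z, ← hd, smul_add, mul_add, mul_one, add_mul,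
    mul_smul_comm, smul_mul_smul_comm, hd0, smul_zero, add_zero]
  abel

theorem quad_comm {a b c d : II l} (h1 : c ≠ a.swap) (h2 : c ≠ b.swap) (h3 : d ≠ a.swap) (h4 : d ≠ b.swap) :
    Commute (cl F a * cl F b) (cl F c * cl F d : MM) := by
  have e : ∀ z, z ≠ a.swap → z ≠ b.swap → Commute (cl F a * cl F b) (cl F z : MM) := fun z p1 p2 => by
    show _ = _
    rw [cl_move, if_neg p2, if_neg p1, sub_zero, add_zero]
  exact (e c h1 h2).mul_right (e d h3 h4)

theorem eu_comm {x y z w : II l} (h : pl x ≠ pl y) (h' : pl z ≠ pl w) (h1 : z ≠ x.swap) (h2 : z ≠ y.swap)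
    (h3 : w ≠ x.swap) (h4 : w ≠ y.swap) (t u : F) : Commute (eu F x y t) (eu F z w u) := Units.ext (by
  show (eu F x y t : MM) * eu F z w u = eu F z w u * eu F x y t
  rw [eu_val h, eu_val h']
  exact (Commute.one_left _).add_left ((Commute.one_right _).add_right
    (((quad_comm h1 h2 h3 h4).smul_left t).smul_right u)))

theorem eu_three {x w y : II l} (h1 : pl x ≠ pl w) (h2 : pl w ≠ pl y) (h3 : pl x ≠ pl y) (t u : F) :
    eu F x w t * eu F w.swap y u = eu F x y (t * u) * eu F w.swap y u * eu F x w t := Units.ext (by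
  have h2' : pl w.swap ≠ pl y := by rw [pl_swap]; exact h2
  rw [Units.val_mul, Units.val_mul, Units.val_mul, eu_val h1, eu_val h2', eu_val h3]
  set A : MM := cl F x * cl F w with hA
  set B : MM := cl F w.swap * cl F y with hB
  set C : MM := cl F x * cl F y with hC
  have nyx : y ≠ x.swap := fun e => h3 (by rw [e, pl_swap])
  have nyw : y ≠ w.swap := fun e => h2' (by rw [e])
  have hCB : C * B = 0 := by
    have : cl F y * cl F w.swap * cl F y = (0 : MM) := cl_xyx fun e => h2' (by rw [e, pl_swap])
    rw [hC, hB, mul_assoc, ← mul_assoc (cl F y), this, mul_zero]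
  have hCA : C * A = 0 := by rw [hC, hA, ← mul_assoc, cl_xyx nyx, zero_mul]
  have hBA : A * B = B * A + C := by
    have c : Commute (cl F w.swap * cl F y) (cl F x : MM) := by
      show _ = _
      rw [cl_move, if_neg (fun e : x = y.swap => h3 (by rw [e, pl_swap])),
        if_neg (fun e : x = w.swap.swap => h1 (by rw [e, Sum.swap_swap])), sub_zero, add_zero]
    have e1 : B * A = -(cl F x * (cl F w.swap * cl F w) * cl F y) := by
      rw [hB, hA, ← mul_assoc, c.eq, mul_assoc, mul_assoc (cl F w.swap), cl_swap w y nyw]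
      simp [mul_assoc]
    rw [e1, hA, hB, hC]
    have := cl_anti (F := F) w w.swap
    rw [if_pos rfl] at this
    calc cl F x * cl F w * (cl F w.swap * cl F y)
        = cl F x * (cl F w * cl F w.swap) * cl F y := by simp [mul_assoc]
      _ = cl F x * (1 - cl F w.swap * cl F w) * cl F y := by rw [eq_sub_of_add_eq this]
      _ = _ := by noncomm_ring
  have hCB' : C * (B * A) = 0 := by rw [← mul_assoc, hCB, zero_mul]
  simp only [add_mul, mul_add, one_mul, mul_one, smul_mul_smul_comm, hCB, hCA, smul_zero, add_zero, mul_assoc,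
    hCB', hBA, smul_add]
  rw [mul_comm u t]
  abel)

variable (F l) in
/-- The covering group. -/
noncomputable def Spin : Subgroup (MMˣ × GL (II l) F) :=
  Subgroup.closure {p | ∃ x y t, pl x ≠ pl y ∧ p = (eu F x y t, S x y t)}

theorem S_inv_agree {x y : II l} (h : pl x ≠ pl y) (t : F) : Agree (eu F x y t)⁻¹ (S x y t)⁻¹ := by
  have e : S x y t * S x y (-t) = 1 := by
    have := agree_mul (eu_agree h t) (eu_agree h (-t))
    rw [← eu_inv h, mul_inv_cancel] at this
    exact agree_unique this agree_one
  rw [eu_inv h, inv_eq_of_mul_eq_one_right e]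
  exact eu_agree h _

theorem spin_agree {p : MMˣ × GL (II l) F} (hp : p ∈ Spin F l) : Agree p.1 p.2 := by
  induction hp using Subgroup.closure_induction_left with
  | one => exact agree_one
  | mul_left g hg x _ hx =>
    obtain ⟨a, b, t, h, rfl⟩ := hg
    exact agree_mul (eu_agree h t) hx
  | inv_mul_cancel g hg x _ hx =>
    obtain ⟨a, b, t, h, rfl⟩ := hg
    exact agree_mul (S_inv_agree h t) hx

theorem spin_ext {a b : ↥(Spin F l)} (h : a.1.1 = b.1.1) : a = b :=
  Subtype.ext (Prod.ext h (agree_unique (spin_agree a.2) (by rw [h]; exact spin_agree b.2)))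

variable (F) in
/-- A root element of the covering group. -/
noncomputable def ep (x y : II l) (t : F) : ↥(Spin F l) :=
  if h : pl x ≠ pl y then ⟨(eu F x y t, S x y t), Subgroup.subset_closure ⟨x, y, t, h, rfl⟩⟩ else 1

theorem ep_fst {x y : II l} (h : pl x ≠ pl y) (t : F) : (ep F x y t).1.1 = eu F x y t := by rw [ep, dif_pos h]

theorem ep_snd {x y : II l} (h : pl x ≠ pl y) (t : F) : (ep F x y t).1.2 = S x y t := by rw [ep, dif_pos h]

variable (F l) in
/-- The projection to the matrices. -/
noncomputable def proj : ↥(Spin F l) →* GL (II l) F := (MonoidHom.snd _ _).comp (Spin F l).subtype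

theorem gens_eq : gens F (l + 2) = {g | ∃ x y t, pl x ≠ pl y ∧ g = (S x y t : GL (II l) F)} := by
  ext g
  constructor
  · rintro ⟨a, b, c, h1, h2, hg⟩
    exact ⟨a, b, c, pl_ne_iff.2 ⟨h1, h2⟩,
      Cfsg.Agent.Lie.PlusGen.ext_single fun v => by rw [hg, S_mulVec (pl_ne_iff.2 ⟨h1, h2⟩)]⟩
  · rintro ⟨z, w, t, h, rfl⟩
    exact ⟨z, w, t, (pl_ne_iff.1 h).1, (pl_ne_iff.1 h).2, fun v => S_mulVec h t v⟩

theorem proj_range : (proj F l).range = Subgroup.closure (gens F (l + 2)) := by
  rw [proj, MonoidHom.range_comp, Subgroup.range_subtype, Spin, MonoidHom.map_closure, gens_eq]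
  congr 1
  ext g
  constructor
  · rintro ⟨_, ⟨x, y, t, h, rfl⟩, rfl⟩; exact ⟨x, y, t, h, rfl⟩
  · rintro ⟨x, y, t, h, rfl⟩; exact ⟨_, ⟨x, y, t, h, rfl⟩, rfl⟩

theorem spin_perfect (hl : 2 ≤ l) : commutator ↥(Spin F l) = ⊤ := by
  rw [eq_top_iff, ← Subgroup.map_le_map_iff_of_injective (Spin F l).subtype_injective]
  rw [← MonoidHom.range_eq_map, Subgroup.range_subtype, Spin, Subgroup.closure_le]
  rintro _ ⟨x, y, t, h, rfl⟩
  refine ⟨ep F x y t, ?_, by rw [ep, dif_pos h]; rfl⟩
  obtain ⟨w, hw1, hw2⟩ := exists_pl hl y x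
  have h2 : pl w.swap ≠ pl y := by rw [pl_swap]; exact hw2
  have e : ep F x y t = ⁅ep F x w 1, ep F w.swap y t⁆ := by
    refine spin_ext ?_
    have e3 := eu_three hw1.symm hw2 h (1 : F) t
    rw [one_mul] at e3
    rw [commutatorElement_def]
    simp only [Subgroup.coe_mul, Subgroup.coe_inv, Prod.fst_mul, Prod.fst_inv, ep_fst hw1.symm, ep_fst h2, ep_fst h, e3]
    group
  rw [e, commutator_def]
  exact Subgroup.commutator_mem_commutator (Subgroup.mem_top _) (Subgroup.mem_top _)

theorem ker_central : (proj F l).ker ≤ Subgroup.center ↥(Spin F l) := by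
  intro k hk
  have hk1 : k.1.2 = 1 := hk
  have hc : ∀ z : II l, Commute (k.1.1 : MM) (cl F z) := fun z => by
    have := spin_agree k.2 (Pi.single z 1)
    rw [hk1, Units.val_one, one_mulVec, cv_single, one_smul] at this
    exact this
  have hgen : ∀ p ∈ Spin F l, Commute k.1.1 p.1 := by
    intro p hp
    induction hp using Subgroup.closure_induction with
    | mem q hq =>
      obtain ⟨x, y, t, h, rfl⟩ := hq
      refine Units.ext ?_
      show (k.1.1 : MM) * eu F x y t = eu F x y t * k.1.1
      rw [eu_val h]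
      exact (Commute.one_right _).add_right (((hc x).mul_right (hc y)).smul_right t)
    | one => exact Commute.one_right _
    | mul a b _ _ ha hb => exact ha.mul_right hb
    | inv a _ ha => exact ha.inv_right
  rw [Subgroup.mem_center_iff]
  exact fun p => spin_ext (hgen p.1 p.2).eq.symm

theorem spin_conj {p : ↥(Spin F l)} {π : Equiv.Perm (II l)} {k : II l → F} (hp : SMono (proj F l p) π k)
    {x y : II l} (h : pl x ≠ pl y) (t : F) :
    p * ep F x y t * p⁻¹ = ep F (π x) (π y) (k x * k y * t) := by
  have hne : pl (π x) ≠ pl (π y) := by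
    intro e
    rcases pl_eq e with e | e
    · exact h (by rw [π.injective e])
    · rw [← hp.1] at e; exact h (by rw [π.injective e, pl_swap])
  rw [mul_inv_eq_iff_eq_mul]
  refine spin_ext (Units.ext ?_)
  have hz : ∀ z : II l, (p.1.1 : MM) * cl F z = (k z • cl F (π z)) * p.1.1 := fun z => by
    have := spin_agree p.2 (Pi.single z 1)
    rw [cv_single, one_smul, show p.1.2.1 *ᵥ Pi.single z 1 = Pi.single (π z) (k z) from hp.2.2 z, cv_single] at this
    exact this
  simp only [Subgroup.coe_mul, Prod.fst_mul, Units.val_mul, ep_fst h, ep_fst hne, eu_val h, eu_val hne, mul_add,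
    add_mul, mul_one, one_mul, mul_smul_comm]
  congr 1
  rw [← mul_assoc, hz, mul_assoc, hz]
  simp only [smul_mul_assoc, mul_smul_comm, ← mul_assoc, smul_smul]
  congr 1
  ring

theorem ep_add {x y : II l} (h : pl x ≠ pl y) (t u : F) : ep F x y t * ep F x y u = ep F x y (t + u) :=
  spin_ext (by rw [Subgroup.coe_mul, Prod.fst_mul, ep_fst h, ep_fst h, ep_fst h, eu_add h])

theorem exists_levi_lift (hl : 2 ≤ l) : ∃ Φ : Matrix.SpecialLinearGroup (Fin (l + 2)) F →* ↥(Spin F l),
    ∀ i j, i ≠ j → ∀ t, Φ (tv' i j t) = ep F (Sum.inl i) (Sum.inr j) t := by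
  refine hom_of_rels (by omega) (fun i j t => ep F (Sum.inl i) (Sum.inr j) t) ?_ ?_ ?_
  · intro i j h t u
    exact ep_add (show pl (Sum.inl i : II l) ≠ pl (Sum.inr j : II l) from h) t u
  · intro i j k m h1 h2 h3 h4 t u
    have p1 : pl (Sum.inl i : II l) ≠ pl (Sum.inr j : II l) := h1
    have p2 : pl (Sum.inl k : II l) ≠ pl (Sum.inr m : II l) := h2
    refine spin_ext ?_
    simp only [Subgroup.coe_mul, Prod.fst_mul, ep_fst p1, ep_fst p2]
    exact (eu_comm p1 p2 (by simp) (by simpa using h4.symm) (by simpa using h3.symm) (by simp) t u).eq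
  · intro i j m h1 h2 h3 t u
    have p1 : pl (Sum.inl i : II l) ≠ pl (Sum.inr j : II l) := h1
    have p2 : pl (Sum.inl j : II l) ≠ pl (Sum.inr m : II l) := h2
    have p3 : pl (Sum.inl i : II l) ≠ pl (Sum.inr m : II l) := h3
    refine spin_ext ?_
    simp only [Subgroup.coe_mul, Prod.fst_mul, ep_fst p1, ep_fst p2, ep_fst p3]
    exact eu_three p1 (show pl (Sum.inr j : II l) ≠ pl (Sum.inr m : II l) from h2) p3 t u

/-- The square of the simple monomial element. -/
theorem neg_val {x y : II l} (h : pl x ≠ pl y) :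
    ((ep F x y (-1) * ep F y.swap x.swap 1 * ep F x y (-1)) *
      (ep F x y (-1) * ep F y.swap x.swap 1 * ep F x y (-1))).1.1.1 =
      1 - 2 * ((cl F x * cl F x.swap) * (cl F y * cl F y.swap) +
        (cl F y.swap * cl F y) * (cl F x.swap * cl F x) : MM) := by
  have h' : pl y.swap ≠ pl x.swap := by rw [pl_swap, pl_swap]; exact h.symm
  simp only [Subgroup.coe_mul, Prod.fst_mul, Units.val_mul, ep_fst h, ep_fst h', eu_val h, eu_val h', one_smul,
    neg_smul, ← sub_eq_add_neg]
  set a : MM := cl F x * cl F y with ha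
  set b : MM := cl F y.swap * cl F x.swap with hb
  have n1 : x ≠ y.swap := fun e => h (by rw [e, pl_swap])
  have n2 : x ≠ y := fun e => h (by rw [e])
  have cc : ∀ z w : II l, pl z ≠ pl w → Commute (cl F z * cl F z.swap) (cl F w : MM) := fun z w hzw => by
    show _ = _
    rw [cl_move, if_neg (fun e : w = z.swap.swap => hzw (by rw [e, Sum.swap_swap])),
      if_neg (fun e : w = z.swap => hzw (by rw [e, pl_swap])), sub_zero, add_zero]
  have hab : a * b = (cl F x * cl F x.swap) * (cl F y * cl F y.swap) := by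
    rw [ha, hb]
    calc cl F x * cl F y * (cl F y.swap * cl F x.swap) = cl F x * ((cl F y * cl F y.swap) * cl F x.swap) := by
          simp [mul_assoc]
      _ = _ := by rw [(cc y x.swap (by rw [pl_swap]; exact h.symm)).eq, ← mul_assoc]
  have hba : b * a = (cl F y.swap * cl F y) * (cl F x.swap * cl F x) := by
    rw [ha, hb]
    have := cc x.swap y (by rw [pl_swap]; exact h)
    rw [Sum.swap_swap] at this
    calc cl F y.swap * cl F x.swap * (cl F x * cl F y) = cl F y.swap * ((cl F x.swap * cl F x) * cl F y) := by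
          simp [mul_assoc]
      _ = _ := by rw [this.eq, ← mul_assoc]
  have idem : ∀ z : II l, cl F z * cl F z.swap * cl F z = (cl F z : MM) := fun z => by
    have := cl_anti (F := F) z.swap z
    rw [if_pos (Sum.swap_swap z).symm] at this
    rw [mul_assoc, eq_sub_of_add_eq this, mul_sub, mul_one, ← mul_assoc, cl_sq, zero_mul, sub_zero]
  have hsa : a * a = 0 := prod_sq h
  have hsb : b * b = 0 := prod_sq h'
  have habab : a * b * a = a := by
    rw [hab, ha]
    calc cl F x * cl F x.swap * (cl F y * cl F y.swap) * (cl F x * cl F y)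
        = cl F x * cl F x.swap * ((cl F y * cl F y.swap) * cl F x) * cl F y := by simp [mul_assoc]
      _ = (cl F x * cl F x.swap * cl F x) * (cl F y * cl F y.swap * cl F y) := by
          rw [(cc y x h.symm).eq]; simp [mul_assoc]
      _ = _ := by rw [idem, idem]
  have hbaba : b * a * b = b := by
    rw [hba, hb]
    have := cc x.swap y.swap (by rw [pl_swap, pl_swap]; exact h)
    rw [Sum.swap_swap] at this
    have i1 := idem y.swap
    have i2 := idem x.swap
    rw [Sum.swap_swap] at i1 i2
    calc cl F y.swap * cl F y * (cl F x.swap * cl F x) * (cl F y.swap * cl F x.swap)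
        = cl F y.swap * cl F y * ((cl F x.swap * cl F x) * cl F y.swap) * cl F x.swap := by simp [mul_assoc]
      _ = (cl F y.swap * cl F y * cl F y.swap) * (cl F x.swap * cl F x * cl F x.swap) := by
          rw [this.eq]; simp [mul_assoc]
      _ = _ := by rw [i1, i2]
  rw [← hab, ← hba]
  exact jsq hsa hsb habab hbaba

/-- The two involutions of the fork differ by the sign. -/
theorem neg_pair {a b : II l} (h : pl a ≠ pl b) :
    (1 - 2 * ((cl F a * cl F a.swap) * (cl F b.swap * cl F b) + (cl F b * cl F b.swap) * (cl F a.swap * cl F a))) *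
      (1 - 2 * ((cl F a * cl F a.swap) * (cl F b * cl F b.swap) + (cl F b.swap * cl F b) * (cl F a.swap * cl F a)))
      = (-1 : MM) := by
  have ea : cl F a.swap * cl F a = (1 : MM) - cl F a * cl F a.swap :=
    eq_sub_of_add_eq ((add_comm _ _).trans ((cl_anti _ _).trans (if_pos rfl)))
  have eb : cl F b.swap * cl F b = (1 : MM) - cl F b * cl F b.swap :=
    eq_sub_of_add_eq ((add_comm _ _).trans ((cl_anti _ _).trans (if_pos rfl)))
  rw [ea, eb]
  have idem : ∀ z : II l, (cl F z * cl F z.swap) * (cl F z * cl F z.swap) = (cl F z * cl F z.swap : MM) := fun z => by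
    have := cl_anti (F := F) z.swap z
    rw [if_pos (Sum.swap_swap z).symm] at this
    rw [← mul_assoc, mul_assoc (cl F z), eq_sub_of_add_eq this, mul_sub, mul_one, ← mul_assoc, cl_sq, zero_mul,
      sub_zero]
  refine two_idem (idem a) (idem b) ?_
  refine quad_comm ?_ ?_ ?_ ?_ <;> intro e <;> apply h
  · rw [e, pl_swap]
  · rw [e, Sum.swap_swap]
  · rw [← pl_swap b, e, pl_swap]
  · rw [← pl_swap b, e, Sum.swap_swap]

end Cfsg.Agent.Small.SpinCover
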