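import Cfsg.Agent.Lib.Small.SchurSLFinal
import Cfsg.Agent.Lib.Small.SpinCover.Spin

/-!
In a central extension of the commutator subgroup of the orthogonal group of plus type the lifts of the two
root groups of the fork commute with each other and with the complementary block.
-/

set_option autoImplicit false
set_option linter.unusedSectionVars false
set_option linter.unusedSimpArgs false

namespace Cfsg.Agent.Small.SpinCover

open Matrix Cfsg.Agent.Lie.CTA Cfsg.Agent.Small.OmegaPres
open Cfsg.Agent.Small.SchurLifts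
open Cfsg.Agent.Lie.PlusGen (pl pl_swap gens swap_ne)
open scoped commutatorElement

section Abstract

variable {Γ Q : Type*} [Group Γ] [Group Q] (C : Central Γ Q)

theorem conj_same {a a' : Γ} (h : C.π a = C.π a') (x : Γ) : a * x * a⁻¹ = a' * x * a'⁻¹ := by
  obtain ⟨z, hz, rfl⟩ : ∃ z ∈ Subgroup.center Γ, a = a' * z := ⟨_, C.div_mem h, (mul_inv_cancel_left a' a).symm⟩
  rw [_root_.mul_inv_rev, mul_assoc a' z x, ← Subgroup.mem_center_iff.1 hz x]
  group

/-- Lifts of a perfect group commuting modulo the centre with an element commute with it. -/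
theorem comm_perfect {A : Type*} [Group A] (f : A →* Γ) (hA : commutator A = ⊤) (b : Γ)
    (h : ∀ a, Commute (C.π b) (C.π (f a))) (a : A) : Commute b (f a) := by
  have ha : a ∈ Subgroup.closure (commutatorSet A) := by
    rw [← commutator_eq_closure, hA]; exact Subgroup.mem_top a
  induction ha using Subgroup.closure_induction with
  | mem x hx =>
    obtain ⟨p, q, rfl⟩ := hx
    rw [map_commutatorElement]
    exact C.commute_comm (h p) (h q)
  | one => rw [map_one]; exact Commute.one_right _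
  | mul x y _ _ hx hy => rw [map_mul]; exact hx.mul_right hy
  | inv x _ hx => rw [map_inv]; exact hx.inv_right

/-- Powers in the first argument of a central commutator. -/
theorem comm_pow {a b : Γ} (h : ⁅a, b⁆ ∈ Subgroup.center Γ) (n : ℕ) : ⁅a ^ n, b⁆ = ⁅a, b⁆ ^ n := by
  induction n with
  | zero => simp
  | succ n ih =>
    rw [pow_succ a, commutatorElement_def, _root_.mul_inv_rev,
      show a ^ n * a * b * (a⁻¹ * (a ^ n)⁻¹) * b⁻¹ = a ^ n * ⁅a, b⁆ * b * (a ^ n)⁻¹ * b⁻¹ by
        rw [commutatorElement_def]; group, Subgroup.mem_center_iff.1 h (a ^ n), mul_assoc ⁅a, b⁆, mul_assoc ⁅a, b⁆,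
      mul_assoc ⁅a, b⁆, ← commutatorElement_def, ih, pow_succ']

theorem comm_inv_inv {a b : Γ} (h : ⁅a, b⁆ ∈ Subgroup.center Γ) : ⁅a⁻¹, b⁻¹⁆ = ⁅a, b⁆ := by
  have h1 : ⁅a⁻¹, b⁻¹⁆ = (a * b)⁻¹ * ⁅a, b⁆ * (a * b) := by simp only [commutatorElement_def]; group
  rw [h1, mul_assoc, ← Subgroup.mem_center_iff.1 h (a * b), inv_mul_cancel_left]

end Abstract

variable {F : Type*} [Field F] [Fintype F] {l : ℕ}

local notation "SL2" => Matrix.SpecialLinearGroup (Fin 2) F

variable (F l) in
/-- The generated matrix group. -/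
noncomputable def OM : Subgroup (GL (II l) F) := Subgroup.closure (gens F (l + 2))

theorem S_mem {x y : II l} (h : pl x ≠ pl y) (t : F) : S x y t ∈ OM F l :=
  Subgroup.subset_closure (by rw [gens_eq]; exact ⟨x, y, t, h, rfl⟩)

theorem levi_mem (g : Matrix.SpecialLinearGroup (Fin (l + 2)) F) : Fork.levi g ∈ OM F l := by
  have hg : g ∈ Subgroup.closure {g : Matrix.SpecialLinearGroup (Fin (l + 2)) F |
      ∃ (i j : Fin (l + 2)) (h : i ≠ j) (c : F), g = Matrix.SpecialLinearGroup.transvection h c} := by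
    rw [Cfsg.Agent.Classical.sl_closure_transvections]; exact Subgroup.mem_top g
  induction hg using Subgroup.closure_induction with
  | mem x hx =>
    obtain ⟨i, j, hij, c, rfl⟩ := hx
    rw [show Matrix.SpecialLinearGroup.transvection hij c = tv' i j c by rw [tv', dif_pos hij], Fork.levi_tv hij]
    exact S_mem (show pl (Sum.inl i : II l) ≠ pl (Sum.inr j : II l) from hij) c
  | one => rw [map_one]; exact one_mem _
  | mul a b _ _ ha hb => rw [map_mul]; exact mul_mem ha hb
  | inv a _ ha => rw [map_inv]; exact inv_mem ha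

theorem tm_mem : tm F l ∈ OM F l := by
  have h : pl (Sum.inl (jc l) : II l) ≠ pl (Sum.inl (ib l) : II l) := jc_ib
  exact mul_mem (mul_mem (S_mem h _) (S_mem (show pl (Sum.inr (ib l) : II l) ≠ pl (Sum.inr (jc l) : II l) from
    jc_ib.symm) _)) (S_mem h _)

theorem S_commutator {x w y : II l} (h1 : pl x ≠ pl w) (h2 : pl w ≠ pl y) (h3 : pl x ≠ pl y) (t u : F) :
    S x w t * S w.swap y u = S x y (t * u) * S w.swap y u * S x w t := by
  have h2' : pl w.swap ≠ pl y := by rw [pl_swap]; exact h2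
  refine agree_unique (agree_mul (eu_agree h1 t) (eu_agree h2' u)) ?_
  rw [eu_three h1 h2 h3]
  exact agree_mul (agree_mul (eu_agree h3 _) (eu_agree h2' u)) (eu_agree h1 t)

section Lifts

variable {Γ : Type*} [Group Γ] (C : Central Γ ↥(OM F l)) (θ : Matrix.SpecialLinearGroup (Fin (l + 2)) F →* Γ)

/-- The matrix of an element. -/
noncomputable def mat : Γ →* GL (II l) F := (OM F l).subtype.comp C.π

theorem π_eq {a b : Γ} (h : mat C a = mat C b) : C.π a = C.π b := Subtype.ext h

theorem π_commute {a b : Γ} (h : Commute (mat C a) (mat C b)) : Commute (C.π a) (C.π b) := Subtype.ext h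

/-- A lift of the further generator. -/
noncomputable def tl : Γ := C.L ⟨tm F l, tm_mem⟩

theorem mat_tl : mat C (tl C) = tm F l := congrArg Subtype.val (C.π_L _)

theorem mat_kap (hl : 2 ≤ l) (hθ : ∀ g, mat C (θ g) = Fork.levi g) (g : SL2) :
    mat C (kapG hl θ (tl C) g) = kapm (two_one hl) g := by
  show mat C (tl C * θ _ * (tl C)⁻¹) = _
  rw [map_mul, map_mul, map_inv, mat_tl, hθ]
  rfl

/-- A lift of a root element with parameter one. -/
noncomputable def Lr (x y : II l) : Γ :=
  open scoped _root_.Classical in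
  if h : pl x ≠ pl y then C.L ⟨S x y 1, S_mem h 1⟩ else 1

theorem mat_Lr {x y : II l} (h : pl x ≠ pl y) : mat C (Lr C x y) = S x y 1 := by
  rw [Lr, dif_pos h]; exact congrArg Subtype.val (C.π_L _)

variable {C θ}

theorem two_unit (h2 : Fintype.card F = 2) {k : F} (hk : k ≠ 0) : k = 1 := by
  classical
  by_contra h
  have := Finset.card_le_univ ({0, 1, k} : Finset F)
  rw [Finset.card_insert_of_notMem (by simp [Ne.symm hk]), Finset.card_pair (Ne.symm h), h2] at this
  omega

theorem exists_fifth (hl : 3 ≤ l) : ∃ e : Fin (l + 2), e ≠ ia l ∧ e ≠ ib l ∧ e ≠ jc l ∧ e ≠ ⟨0, by omega⟩ := by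
  refine ⟨⟨l - 2, by omega⟩, ?_, ?_, ?_, ?_⟩ <;> intro e <;> have := congrArg Fin.val e <;>
    simp [ia, ib, jc] at this <;> omega

/-- The pairing of two opposite signed roots vanishes over the field of two elements in degree at least five. -/
theorem pair_two (hl : 3 ≤ l) (h2 : Fintype.card F = 2) (hθ : ∀ g, mat C (θ g) = Fork.levi g) :
    ⁅Lr C (Sum.inl (ia l)) (Sum.inl (ib l)), Lr C (Sum.inl (ia l)) (Sum.inr (ib l))⁆ = 1 := by
  obtain ⟨e, e1, e2, e3, e4⟩ := exists_fifth (l := l) hl
  set d : Fin (l + 2) := ⟨0, by omega⟩ with hd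
  have hl1 : 1 ≤ l := by omega
  have da : d ≠ ia l := fun h => by have := congrArg Fin.val h; simp [hd, ia] at this; omega
  have db : d ≠ ib l := fun h => by have := congrArg Fin.val h; simp [hd, ib] at this
  have dj : d ≠ jc l := fun h => by have := congrArg Fin.val h; simp [hd, jc] at this; omega
  have ja := jc_ia hl1
  have jb : jc l ≠ ib l := jc_ib
  have ab := iab l
  have one' : ∀ {k : F}, k ≠ 0 → k = 1 := fun hk => two_unit h2 hk
  have hm : (-1 : F) = 1 := one' (neg_ne_zero.2 one_ne_zero)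
  have hswap : ∀ {x y : II l}, pl x ≠ pl y → (S x y 1 : GL (II l) F) = S y x 1 := fun {x y} h => by
    rw [S_symm h, hm]
  set A := Lr C (Sum.inl (ia l)) (Sum.inl (ib l)) with hA
  set B := Lr C (Sum.inl (ia l)) (Sum.inr (ib l)) with hB
  set A' := Lr C (Sum.inl (jc l)) (Sum.inl (ib l)) with hA'
  set B' := Lr C (Sum.inl (jc l)) (Sum.inr (ib l)) with hB'
  have pA : pl (Sum.inl (ia l) : II l) ≠ pl (Sum.inl (ib l) : II l) := ab
  have pB : pl (Sum.inl (ia l) : II l) ≠ pl (Sum.inr (ib l) : II l) := ab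
  have pA' : pl (Sum.inl (jc l) : II l) ≠ pl (Sum.inl (ib l) : II l) := jb
  have pB' : pl (Sum.inl (jc l) : II l) ≠ pl (Sum.inr (ib l) : II l) := jb
  have cAB : Commute (mat C A) (mat C B) := by
    rw [mat_Lr C pA, mat_Lr C pB]; exact S_comm_same pA 1 1
  have cAB' : Commute (mat C A') (mat C B') := by
    rw [mat_Lr C pA', mat_Lr C pB']; exact S_comm_same pA' 1 1
  set β := ⁅A, B⁆ with hβ
  set β' := ⁅A', B'⁆ with hβ'
  have zβ : β ∈ Subgroup.center Γ := C.comm_central (π_commute C cAB)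
  have zβ' : β' ∈ Subgroup.center Γ := C.comm_central (π_commute C cAB')
  set W1 := ⁅A, B'⁆ with hW1
  set W2 := ⁅A', B⁆ with hW2
  -- both classes agree
  have hββ' : β' = β := by
    have hw := levi_mono (emb2_anti ja (J2_val (F := F)))
    set P := θ (emb2 ja (J2 F))
    have key : ∀ (w : II l), pl (Sum.inl (ia l) : II l) ≠ pl w → Equiv.sumCongr (Equiv.swap (jc l) (ia l))
        (Equiv.swap (jc l) (ia l)) w = w → pl (Sum.inl (jc l) : II l) ≠ pl w →
        mat C (P * Lr C (Sum.inl (ia l)) w * P⁻¹) = mat C (Lr C (Sum.inl (jc l)) w) := by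
      intro w hw1 hw2 hw3
      rw [map_mul, map_mul, map_inv, hθ, mat_Lr C hw1, mat_Lr C hw3, hw.conj_S hw1, hw2]
      have e0 : Equiv.sumCongr (Equiv.swap (jc l) (ia l)) (Equiv.swap (jc l) (ia l)) (Sum.inl (ia l)) =
          (Sum.inl (jc l) : II l) := by simp
      rw [e0]
      congr 1
      refine one' (mul_ne_zero (mul_ne_zero ?_ ?_) one_ne_zero) <;> exact left_ne_zero_of_mul_eq_one (hw.2.1 _)
    have h := C.conj_comm (g := P) (a := A) (b := B) (a' := A') (b' := B')
      (π_eq C (key _ pA (by simp [Equiv.swap_apply_of_ne_of_ne jb.symm ab.symm, jb, jb.symm, ab, ab.symm]) pA'))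
      (π_eq C (key _ pB (by simp [Equiv.swap_apply_of_ne_of_ne jb.symm ab.symm, jb, jb.symm, ab, ab.symm]) pB'))
    rw [Subgroup.mem_center_iff.1 zβ P, mul_inv_cancel_right] at h
    exact h.symm
  -- invariance of the pairing
  have hexp : β = W1 * β * β * W2 := by
    have pg : pl (Sum.inl (jc l) : II l) ≠ pl (Sum.inr (ia l) : II l) := ja
    set g := Lr C (Sum.inl (jc l)) (Sum.inr (ia l))
    have conj : ∀ (y : II l), pl (Sum.inl (ia l) : II l) ≠ pl y → pl (Sum.inl (jc l) : II l) ≠ pl y →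
        mat C (g * Lr C (Sum.inl (ia l)) y * g⁻¹) =
          mat C (Lr C (Sum.inl (jc l)) y * Lr C (Sum.inl (ia l)) y) := by
      intro y hy hy'
      have := S_commutator (F := F) pg (show pl (Sum.inr (ia l) : II l) ≠ pl y from hy) hy' 1 1
      rw [map_mul, map_mul, map_inv, map_mul, mat_Lr C pg, mat_Lr C hy, mat_Lr C hy', mul_inv_eq_iff_eq_mul]
      simpa using this
    have h := C.conj_comm (g := g) (a := A) (b := B) (a' := A' * A) (b' := B' * B)
      (π_eq C (conj _ pA pA')) (π_eq C (conj _ pB pB'))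
    rw [Subgroup.mem_center_iff.1 zβ g, mul_inv_cancel_right] at h
    have cA' : Commute A' W1 := by
      refine C.commute_comm (π_commute C ?_) (π_commute C cAB')
      rw [mat_Lr C pA', mat_Lr C pA]
      exact S_comm pA' pA (by simp) (by simp) (by simp) (by simp) 1 1
    have cB' : Commute B' W2 := by
      refine C.commute_comm (π_commute C cAB'.symm) (π_commute C ?_)
      rw [mat_Lr C pB', mat_Lr C pB]
      exact S_comm pB' pB (by simp [ja, jb, jb.symm, ab, ab.symm]) (by simp [ja, jb, jb.symm, ab, ab.symm]) (by simp [ja, jb, jb.symm, ab, ab.symm]) (by simp [ja, jb, jb.symm, ab, ab.symm]) 1 1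
    have e : ⁅A' * A, B' * B⁆ = A' * (W1 * (B' * β * B'⁻¹)) * A'⁻¹ * (β' * (B' * W2 * B'⁻¹)) := by
      simp only [hW1, hW2, hβ, hβ', commutatorElement_def]; group
    rw [e, Subgroup.mem_center_iff.1 zβ B', mul_inv_cancel_right, cB'.eq, mul_inv_cancel_right,
      (cA'.mul_right (show Commute A' β from Subgroup.mem_center_iff.1 zβ A')).eq, mul_inv_cancel_right, hββ'] at h
    conv_lhs => rw [h]
    group
  -- the two lifts of the same root element
  have hT : mat C (tl C) = tm F l := mat_tl C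
  obtain ⟨r1, r2, r3, r4, r5⟩ := Fork.refl_val (show pl (Sum.inl (jc l) : II l) ≠ pl (Sum.inl (ib l) : II l) from jb)
  simp only [Sum.swap_inl] at r1 r2 r3 r4 r5
  set T := tl C
  have imgT : ∀ {i j : Fin (l + 2)} (h : i ≠ j) {x y : II l} (hxy : pl x ≠ pl y),
      Fork.refl (Sum.inl (jc l)) (Sum.inl (ib l)) (Sum.inl i) = x →
      Fork.refl (Sum.inl (jc l)) (Sum.inl (ib l)) (Sum.inr j) = y →
      mat C (T * θ (tv' i j 1) * T⁻¹) = S x y 1 := by
    intro i j h x y hxy hx hy
    rw [map_mul, map_mul, map_inv, hT, hθ, Fork.levi_tv h,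
      tm_mono.conj_S (show pl (Sum.inl i : II l) ≠ pl (Sum.inr j : II l) from h), hx, hy]
    congr 1
    exact one' (mul_ne_zero (mul_ne_zero (left_ne_zero_of_mul_eq_one (tm_mono.2.1 _))
      (left_ne_zero_of_mul_eq_one (tm_mono.2.1 _))) one_ne_zero)
  have slc : ∀ {i j k : Fin (l + 2)}, i ≠ j → j ≠ k → i ≠ k →
      ⁅θ (tv' i j (1 : F)), θ (tv' j k 1)⁆ = θ (tv' i k 1) := by
    intro i j k h1 h2 h3
    rw [← map_commutatorElement, commutatorElement_def, tv'_comm3 h1 h2 h3 1 1, one_mul]
    congr 1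
    group
  have conjc : ∀ (x u v : Γ), ⁅x * u * x⁻¹, x * v * x⁻¹⁆ = x * ⁅u, v⁆ * x⁻¹ := fun x u v => by
    simp only [commutatorElement_def]; group
  have W1eq : W1 = T * θ (tv' (ia l) (ib l) 1) * T⁻¹ := by
    rw [← slc ja.symm jb ab, ← conjc]
    refine C.comm_indep (π_eq C ?_) (π_eq C ?_)
    · rw [mat_Lr C pA, imgT ja.symm pA (r5 _ (by simpa using ja.symm) (by simp) (by simp) (by simpa using ab)) r3]
    · rw [mat_Lr C pB', imgT jb (show pl (Sum.inr (ib l) : II l) ≠ pl (Sum.inl (jc l) : II l) from jb.symm) r1 r2,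
        hswap pB']
  have fix : ∀ (z : II l), pl z ≠ jc l → pl z ≠ ib l → Fork.refl (Sum.inl (jc l)) (Sum.inl (ib l)) z = z :=
    fun z z1 z2 => r5 z (fun h => z1 (by rw [h]; rfl)) (fun h => z2 (by rw [h]; rfl)) (fun h => z1 (by rw [h]; rfl))
      (fun h => z2 (by rw [h]; rfl))
  set P := θ (emb2 db (J2 F)) with hP
  have hPm := levi_mono (emb2_anti db (J2_val (F := F)))
  have W1comm : Commute P W1 := by
    have q1 : pl (Sum.inl (ia l) : II l) ≠ pl (Sum.inr e : II l) := e1.symm
    have q2 : pl (Sum.inl e : II l) ≠ pl (Sum.inl (jc l) : II l) := e3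
    have fixP : ∀ (z : II l), pl z ≠ d → pl z ≠ ib l →
        Equiv.sumCongr (Equiv.swap d (ib l)) (Equiv.swap d (ib l)) z = z := by
      rintro (z | z) z1 z2 <;> simp only [pl, Sum.elim_inl, Sum.elim_inr, id] at z1 z2 <;>
        simp [Equiv.swap_apply_of_ne_of_ne z1 z2]
    have cm : ∀ {x y : II l}, pl x ≠ pl y → pl x ≠ d → pl x ≠ ib l → pl y ≠ d → pl y ≠ ib l → ∀ X, mat C X = S x y 1 →
        Commute (C.π P) (C.π X) := by
      intro x y hxy x1 x2 y1 y2 X hX
      refine π_commute C ?_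
      rw [hθ, hX]
      have := hPm.conj_S hxy (1 : F)
      rw [fixP x x1 x2, fixP y y1 y2, one' (mul_ne_zero (mul_ne_zero (left_ne_zero_of_mul_eq_one (hPm.2.1 _))
        (left_ne_zero_of_mul_eq_one (hPm.2.1 _))) one_ne_zero)] at this
      exact mul_inv_eq_iff_eq_mul.1 this
    rw [W1eq, ← slc e1.symm e2 ab, ← conjc]
    refine C.commute_comm
      (cm q1 da.symm ab e4 e2 _ (imgT e1.symm q1 (fix _ ja.symm ab) (fix _ e3 e2)))
      (cm q2 e4 e2 dj.symm jb _ (imgT e2 q2 (fix _ e3 e2) r2))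
  have W2eq : W2 = P * W1 * P⁻¹ := by
    have dia : ib l ≠ d := db.symm
    have sP : ∀ z, Equiv.swap d (ib l) z = if z = d then ib l else if z = ib l then d else z := fun z => by
      rw [Equiv.swap_apply_def]
    -- the conjugated lift, as a commutator
    have hinv : (θ (tv' (ia l) d (1 : F)))⁻¹ = θ (tv' (ia l) d 1) := by
      rw [← map_inv, tv'_inv da.symm, hm]
    have e0 : θ (tv' (ia l) d 1) = P * θ (tv' (ia l) (ib l) 1) * P⁻¹ := by
      rw [← map_inv, ← map_mul, ← map_mul]
      congr 1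
      rw [(emb2_anti db (J2_val (F := F))).conj_tv ab]
      simp only [Equiv.swap_apply_of_ne_of_ne da.symm ab, Equiv.swap_apply_right]
      congr 1
      refine (one' (mul_ne_zero (mul_ne_zero ?_ (inv_ne_zero ?_)) one_ne_zero)).symm <;>
        simp [da.symm, db.symm, ab, hm]
    set U := P * T * P⁻¹
    have e' : P * W1 * P⁻¹ = U * ⁅θ (tv' (ib l) d 1), θ (tv' (ia l) (ib l) 1)⁆ * U⁻¹ := by
      rw [← commutatorElement_inv, slc ab dia da.symm, hinv, e0, W1eq]
      simp only [U]; group
    rw [e', ← conjc]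
    refine C.comm_indep (π_eq C ?_) (π_eq C ?_)
    · -- the first factor
      have : mat C (U * θ (tv' (ib l) d 1) * U⁻¹) =
          mat C P * (tm F l * ((mat C P)⁻¹ * Fork.levi (tv' (ib l) d 1) * mat C P) * (tm F l)⁻¹) * (mat C P)⁻¹ := by
        simp only [U, map_mul, map_inv, hT, hθ]; group
      rw [this, hθ, mat_Lr C pA', Fork.levi_tv dia]
      have hback : (Fork.levi (emb2 db (J2 F)))⁻¹ * S (Sum.inl (ib l)) (Sum.inr d) 1 *
          Fork.levi (emb2 db (J2 F)) = S (Sum.inl d) (Sum.inr (ib l)) 1 := by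
        have h1 := hPm.conj_S (show pl (Sum.inl d : II l) ≠ pl (Sum.inr (ib l) : II l) from db) (1 : F)
        rw [one' (mul_ne_zero (mul_ne_zero (left_ne_zero_of_mul_eq_one (hPm.2.1 _))
          (left_ne_zero_of_mul_eq_one (hPm.2.1 _))) one_ne_zero)] at h1
        simp only [Equiv.sumCongr_apply, Sum.map_inl, Sum.map_inr, Equiv.swap_apply_left, Equiv.swap_apply_right] at h1
        rw [← h1]; group
      rw [hback, tm_mono.conj_S (show pl (Sum.inl d : II l) ≠ pl (Sum.inr (ib l) : II l) from db), fix (Sum.inl d) dj db, r2,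
        one' (mul_ne_zero (mul_ne_zero (left_ne_zero_of_mul_eq_one (tm_mono.2.1 _))
          (left_ne_zero_of_mul_eq_one (tm_mono.2.1 _))) one_ne_zero),
        hPm.conj_S (show pl (Sum.inl d : II l) ≠ pl (Sum.inl (jc l) : II l) from dj),
        one' (mul_ne_zero (mul_ne_zero (left_ne_zero_of_mul_eq_one (hPm.2.1 _))
          (left_ne_zero_of_mul_eq_one (hPm.2.1 _))) one_ne_zero)]
      simp only [Equiv.sumCongr_apply, Sum.map_inl, Equiv.swap_apply_left,
        Equiv.swap_apply_of_ne_of_ne dj.symm jb]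
      exact hswap pA'
    · have : mat C (U * θ (tv' (ia l) (ib l) 1) * U⁻¹) =
          mat C P * (tm F l * ((mat C P)⁻¹ * Fork.levi (tv' (ia l) (ib l) 1) * mat C P) * (tm F l)⁻¹) * (mat C P)⁻¹ := by
        simp only [U, map_mul, map_inv, hT, hθ]; group
      rw [this, hθ, mat_Lr C pB, Fork.levi_tv ab]
      have hback : (Fork.levi (emb2 db (J2 F)))⁻¹ * S (Sum.inl (ia l)) (Sum.inr (ib l)) 1 *
          Fork.levi (emb2 db (J2 F)) = S (Sum.inl (ia l)) (Sum.inr d) 1 := by
        have h1 := hPm.conj_S (show pl (Sum.inl (ia l) : II l) ≠ pl (Sum.inr d : II l) from da.symm) (1 : F)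
        rw [one' (mul_ne_zero (mul_ne_zero (left_ne_zero_of_mul_eq_one (hPm.2.1 _))
          (left_ne_zero_of_mul_eq_one (hPm.2.1 _))) one_ne_zero)] at h1
        simp only [Equiv.sumCongr_apply, Sum.map_inl, Sum.map_inr, Equiv.swap_apply_left,
          Equiv.swap_apply_of_ne_of_ne da.symm ab] at h1
        rw [← h1]; group
      rw [hback, tm_mono.conj_S (show pl (Sum.inl (ia l) : II l) ≠ pl (Sum.inr d : II l) from da.symm),
        fix (Sum.inl (ia l)) ja.symm ab, fix (Sum.inr d) dj db,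
        one' (mul_ne_zero (mul_ne_zero (left_ne_zero_of_mul_eq_one (tm_mono.2.1 _))
          (left_ne_zero_of_mul_eq_one (tm_mono.2.1 _))) one_ne_zero),
        hPm.conj_S (show pl (Sum.inl (ia l) : II l) ≠ pl (Sum.inr d : II l) from da.symm),
        one' (mul_ne_zero (mul_ne_zero (left_ne_zero_of_mul_eq_one (hPm.2.1 _))
          (left_ne_zero_of_mul_eq_one (hPm.2.1 _))) one_ne_zero)]
      simp only [Equiv.sumCongr_apply, Sum.map_inl, Sum.map_inr, Equiv.swap_apply_left,
        Equiv.swap_apply_of_ne_of_ne da.symm ab]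
  have W22 : W2 = W1 := by rw [W2eq, W1comm.eq, mul_inv_cancel_right]
  have W1sq : W1 * W1 = 1 := by
    rw [W1eq, conj_mul, ← map_mul, tv'_add ab, show (1 : F) + 1 = 0 from add_eq_zero_iff_eq_neg.2 hm.symm, tv'_zero,
      map_one, mul_one, mul_inv_cancel]
  rw [W22, mul_assoc W1 β β, mul_assoc W1,
    (Subgroup.mem_center_iff.1 (mul_mem zβ zβ) W1).symm, ← mul_assoc, W1sq, one_mul] at hexp
  exact (mul_eq_left (a := β)).1 hexp.symm

/-- Pairings of signed roots exchanged by a monomial element vanish over the field of three elements. -/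
theorem pair_three (h3 : Fintype.card F = 3) {W : Γ} {π : Equiv.Perm (II l)} {k : II l → F}
    (hW : SMono (mat C W) π k) {x y z w : II l} (hxy : pl x ≠ pl y) (hzw : pl z ≠ pl w) (e1 : π x = z) (e2 : π y = w)
    (e3 : π z = x) (e4 : π w = y) (hk : (k x * k y) * (k z * k w) = 1) {a b : Γ} (ha : mat C a = S x y 1)
    (hb : mat C b = S z w 1) (hab : Commute (mat C a) (mat C b)) (ha3 : a ^ 3 = 1) : Commute a b := by
  rw [← commutatorElement_eq_one_iff_commute]
  set β := ⁅a, b⁆ with hβ
  have zβ : β ∈ Subgroup.center Γ := C.comm_central (π_commute C hab)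
  have hne : k x * k y ≠ 0 := left_ne_zero_of_mul_eq_one hk
  have hpm : k x * k y = 1 ∨ k x * k y = -1 := by
    have h := FiniteField.pow_card_sub_one_eq_one _ hne
    rw [h3] at h
    exact sq_eq_one_iff.1 h
  have same : k z * k w = k x * k y := by
    rcases hpm with e | e <;> rw [e] at hk ⊢
    · simpa using hk
    · linear_combination -hk
  have img : ∀ (u : Γ) (p q p' q' : II l), pl p ≠ pl q → mat C u = S p q 1 → π p = p' → π q = q' →
      mat C (W * u * W⁻¹) = S p' q' (k p * k q) := fun u p q p' q' hpq hu f1 f2 => by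
    rw [map_mul, map_mul, map_inv, hu, hW.conj_S hpq, f1, f2, mul_one]
  have neg : ∀ {p q : II l}, pl p ≠ pl q → (S p q (1 : F))⁻¹ = S p q (-1) := fun {p q} h => by
    have e := agree_mul (eu_agree (F := F) h 1) (eu_agree h (-1))
    rw [← eu_inv h, mul_inv_cancel] at e
    exact inv_eq_of_mul_eq_one_right (agree_unique e agree_one)
  have key : β = ⁅b, a⁆ := by
    rcases hpm with e | e
    · have h := C.conj_comm (g := W) (a := a) (b := b) (a' := b) (b' := a)
        (π_eq C (by rw [img a x y z w hxy ha e1 e2, hb, e]))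
        (π_eq C (by rw [img b z w x y hzw hb e3 e4, ha, same, e]))
      rwa [Subgroup.mem_center_iff.1 zβ W, mul_inv_cancel_right] at h
    · have h := C.conj_comm (g := W) (a := a) (b := b) (a' := b⁻¹) (b' := a⁻¹)
        (π_eq C (by rw [img a x y z w hxy ha e1 e2, map_inv, hb, e, neg hzw]))
        (π_eq C (by rw [img b z w x y hzw hb e3 e4, map_inv, ha, same, e, neg hxy]))
      rwa [Subgroup.mem_center_iff.1 zβ W, mul_inv_cancel_right,
        comm_inv_inv (by rw [← commutatorElement_inv]; exact inv_mem zβ)] at h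
  have h2 : β * β = 1 := by
    nth_rw 2 [key]
    rw [← commutatorElement_inv a b, mul_inv_cancel]
  have h3' : β ^ 3 = 1 := by rw [← comm_pow zβ, ha3, commutatorElement_one_left]
  calc β = β ^ 3 * (β * β)⁻¹ := by group
    _ = 1 := by rw [h3', h2, inv_one, mul_one]

end Lifts

end Cfsg.Agent.Small.SpinCover
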